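import Groth.Prelude.Def_NoriFGS
import Groth.Agent.TorsFpqcLib.Basic
import Groth.Agent.TorsLimLib.Basic

/-!
# Points of actions, pseudo-torsors, morphisms of torsors along homomorphisms
-/

set_option autoImplicit false
set_option backward.isDefEq.respectTransparency false
set_option linter.style.haveILetI false

noncomputable section

universe u

open CategoryTheory CategoryTheory.Limits MonoidalCategory CartesianMonoidalCategory AlgebraicGeometry
open scoped MonObj

namespace Groth.Agent.Nori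

variable {S : Scheme.{u}} {G H X Y Z : Over S} [GrpObj G] [GrpObj H]

/-- The action on points. -/
abbrev act (a : AlgGrp.Action G X) (g : Z ⟶ G) (x : Z ⟶ X) : Z ⟶ X := lift g x ≫ a.act

theorem comp_act (a : AlgGrp.Action G X) {W : Over S} (w : W ⟶ Z) (g : Z ⟶ G) (x : Z ⟶ X) :
    w ≫ act a g x = act a (w ≫ g) (w ≫ x) := by rw [act, act, comp_lift_assoc]

theorem act_one (a : AlgGrp.Action G X) (x : Z ⟶ X) : act a 1 x = x := by
  rw [act, Hom.one_def, ← lift_whiskerRight_assoc, a.one_act, lift_leftUnitor_hom]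

theorem act_mul (a : AlgGrp.Action G X) (g g' : Z ⟶ G) (x : Z ⟶ X) : act a (g * g') x = act a g (act a g' x) := by
  rw [act, Hom.mul_def, ← lift_whiskerRight_assoc, a.mul_act, lift_lift_associator_hom_assoc, lift_whiskerLeft_assoc]

theorem act_restrict (a : AlgGrp.Action G X) (φ : H ⟶ G) [IsMonHom φ] (h : Z ⟶ H) (x : Z ⟶ X) :
    act (a.restrict φ) h x = act a (h ≫ φ) x := AlgGrp.Action.lift_restrict_act φ a h x

theorem isEquivariant_iff (a : AlgGrp.Action H X) (b : AlgGrp.Action G Y) (φ : H ⟶ G) [IsMonHom φ] (f : X ⟶ Y) :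
    AlgGrp.Action.IsEquivariant a (b.restrict φ) f ↔
      ∀ (Z : Over S) (h : Z ⟶ H) (x : Z ⟶ X), act a h x ≫ f = act b (h ≫ φ) (x ≫ f) := by
  unfold AlgGrp.Action.IsEquivariant
  refine ⟨fun e Z h x => ?_, fun e => ?_⟩
  · rw [act, Category.assoc, e, lift_whiskerLeft_assoc]
    exact AlgGrp.Action.lift_restrict_act φ b h (x ≫ f)
  · have := e (H ⊗ X) (fst H X) (snd H X)
    rw [act, lift_fst_snd, Category.id_comp] at this
    rw [this, ← act_restrict b φ, act]
    congr 1

/-- An action from its values on points. -/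
def mkAction (act' : G ⊗ X ⟶ X) (h1 : ∀ (Z : Over S) (x : Z ⟶ X), lift (1 : Z ⟶ G) x ≫ act' = x)
    (h2 : ∀ (Z : Over S) (g g' : Z ⟶ G) (x : Z ⟶ X), lift (g * g') x ≫ act' = lift g (lift g' x ≫ act') ≫ act') :
    AlgGrp.Action G X where
  act := act'
  one_act := by
    have h := h1 (𝟙_ (Over S) ⊗ X) (snd _ _)
    rw [Hom.one_def, toUnit_unique (toUnit _) (fst _ _)] at h
    refine Eq.trans ?_ (h.trans (leftUnitor_hom X).symm)
    congr 1
  mul_act := AlgGrp.Action.hom_ext_lift₃ fun T g g' x => by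
    rw [lift_whiskerRight_assoc, ← Hom.mul_def, lift_lift_associator_hom_assoc, lift_whiskerLeft_assoc]
    exact h2 T g g' x

theorem existsUnique_act {a : AlgGrp.Action G X} (ha : NonAbH1.IsPseudoTorsorSch a) (x y : Z ⟶ X) :
    ∃! g : Z ⟶ G, act a g x = y := TorsLim.existsUnique_point a ha x y

theorem act_left_cancel {a : AlgGrp.Action G X} (ha : NonAbH1.IsPseudoTorsorSch a) {g g' : Z ⟶ G} {x : Z ⟶ X}
    (h : act a g x = act a g' x) : g = g' := (existsUnique_act ha x (act a g' x)).unique h rfl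

/-- A pseudo-torsor from simple transitivity on points. -/
theorem isPseudoTorsorSch_of_points {a : AlgGrp.Action G X}
    (h : ∀ (Z : Over S) (x y : Z ⟶ X), ∃! g : Z ⟶ G, act a g x = y) : NonAbH1.IsPseudoTorsorSch a := by
  obtain ⟨g, hg, -⟩ := h _ (snd X X) (fst X X)
  refine ⟨lift g (snd _ _), ?_, ?_⟩
  · rw [comp_lift, lift_snd]
    have h0 : act a (fst G X) (snd G X) = a.act := by rw [act, lift_fst_snd, Category.id_comp]
    have e : lift a.act (snd G X) ≫ g = fst G X := by
      refine (h _ (snd G X) a.act).unique ?_ h0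
      have := congrArg (lift a.act (snd G X) ≫ ·) hg
      simpa only [act, comp_lift_assoc, lift_snd, lift_fst] using this
    rw [e, lift_fst_snd]
  · rw [comp_lift, lift_snd]
    show lift (act a g (snd X X)) (snd X X) = _
    rw [hg, lift_fst_snd]

end Groth.Agent.Nori
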