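import Groth.Agent.NoriFGSLib.SubTorsor
import Groth.Agent.AlgSpLib.AffineFpqc
import Groth.Agent.AlgSpRegLib.ImmFpqc
import Mathlib.AlgebraicGeometry.Artinian

/-!
# Fibre products of morphisms of pointed finite torsors over a connected base
-/

set_option autoImplicit false
set_option backward.isDefEq.respectTransparency false
set_option linter.style.haveILetI false

noncomputable section

universe u

open CategoryTheory CategoryTheory.Limits MonoidalCategory CartesianMonoidalCategory AlgebraicGeometry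
open scoped MonObj

attribute [-instance] CategoryTheory.Hom.commGroup

namespace Groth.Agent.Nori

variable {k : Type u} [Field k] {X : Scheme.{u}} [X.Over (Spec (CommRingCat.of k))]

theorem discreteTopology_of_isFinite (G : Over (Spec (CommRingCat.of k))) [IsFinite G.hom] :
    DiscreteTopology G.left := by
  haveI : IsAffine G.left := isAffine_of_isAffineHom G.hom
  have hf : (G.hom.appTop.hom.comp (Scheme.ΓSpecIso (CommRingCat.of k)).inv.hom).Finite :=
    G.hom.finite_appTop.comp (RingHom.Finite.of_surjective _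
      (Scheme.ΓSpecIso (CommRingCat.of k)).symm.commRingCatIsoToRingEquiv.surjective)
  letI := (G.hom.appTop.hom.comp (Scheme.ΓSpecIso (CommRingCat.of k)).inv.hom).toAlgebra
  haveI : Module.Finite k Γ(G.left, ⊤) := hf
  haveI : IsArtinianRing Γ(G.left, ⊤) := IsArtinianRing.of_finite k _
  haveI : DiscreteTopology (Spec Γ(G.left, ⊤)) := inferInstanceAs (DiscreteTopology (PrimeSpectrum _))
  exact G.left.isoSpec.hom.homeomorph.symm.discreteTopology

theorem fpqc_of_fppf {G T : Over X} [GrpObj G] {a : AlgGrp.Action G T}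
    (h : NonAbH1.IsTorsorFor Scheme.fppfPrecoverage a) : NonAbH1.IsTorsorFor Scheme.fpqcPrecoverage a := by
  obtain ⟨R, hR, hsec⟩ := h.2
  exact ⟨h.1, R, Scheme.fppfPrecoverage_le_fpqcPrecoverage _ hR, hsec⟩

variable {G : Over (Spec (CommRingCat.of k))} [GrpObj G] [IsFinite G.hom] {T : Over X}
  {a : AlgGrp.Action (Red.bc (X ↘ Spec (CommRingCat.of k)) G) T}

theorem finite_flat_torsor (hT : NonAbH1.IsTorsorFor Scheme.fpqcPrecoverage a) :
    IsFinite T.hom ∧ Flat T.hom ∧ LocallyOfFinitePresentation T.hom := by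
  haveI : LocallyOfFinitePresentation G.hom := LocallyOfFinitePresentation.iff_locallyOfFiniteType.2 inferInstance
  exact ⟨property_torsor hT @IsFinite ‹_›, property_torsor hT @Flat (inferInstanceAs (Flat G.hom)),
    property_torsor hT @LocallyOfFinitePresentation ‹_›⟩

/-- The fibre product of two morphisms of pointed finite torsors maps onto a connected base. -/
theorem surjective_fibreProd [ConnectedSpace X] {G₁ G₂ : Over (Spec (CommRingCat.of k))} [GrpObj G₁] [GrpObj G₂]
    [IsFinite G₁.hom] [IsFinite G₂.hom] {T₁ T₂ : Over X}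
    {a₁ : AlgGrp.Action (Red.bc (X ↘ Spec (CommRingCat.of k)) G₁) T₁}
    {a₂ : AlgGrp.Action (Red.bc (X ↘ Spec (CommRingCat.of k)) G₂) T₂}
    (hT : NonAbH1.IsTorsorFor Scheme.fpqcPrecoverage a) (hT₁ : NonAbH1.IsTorsorFor Scheme.fpqcPrecoverage a₁)
    (hT₂ : NonAbH1.IsTorsorFor Scheme.fpqcPrecoverage a₂) {x : Spec (CommRingCat.of k) ⟶ X}
    (f₁ : T₁ ⟶ T) (f₂ : T₂ ⟶ T) (t₁ : Spec (CommRingCat.of k) ⟶ T₁.left) (t₂ : Spec (CommRingCat.of k) ⟶ T₂.left)
    (ht₁ : t₁ ≫ T₁.hom = x) (ht₂ : t₂ ≫ T₂.hom = x) (hft : t₁ ≫ f₁.left = t₂ ≫ f₂.left) :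
    Surjective (pullback f₁ f₂).hom := by
  obtain ⟨h1a, h1b, h1c⟩ := finite_flat_torsor hT₁
  obtain ⟨h2a, h2b, h2c⟩ := finite_flat_torsor hT₂
  haveI := h1a; haveI := h1b; haveI := h1c; haveI := h2a; haveI := h2b; haveI := h2c
  haveI := discreteTopology_of_isFinite G
  let Z : Over X := T₁ ⊗ T₂
  haveI : IsFinite Z.hom := inferInstanceAs (IsFinite (pullback.fst T₁.hom T₂.hom ≫ T₁.hom))
  haveI : Flat Z.hom := inferInstanceAs (Flat (pullback.fst T₁.hom T₂.hom ≫ T₁.hom))
  haveI : LocallyOfFinitePresentation Z.hom :=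
    inferInstanceAs (LocallyOfFinitePresentation (pullback.fst T₁.hom T₂.hom ≫ T₁.hom))
  haveI : UniversallyOpen Z.hom := inferInstance
  let d : Z ⟶ Red.bc (X ↘ Spec (CommRingCat.of k)) G := ratio hT.1 (fst _ _ ≫ f₁) (snd _ _ ≫ f₂)
  let d₀ : (Over.map (X ↘ Spec (CommRingCat.of k))).obj Z ⟶ G := dn d
  let e : G.left := (η[G] : 𝟙_ (Over (Spec (CommRingCat.of k))) ⟶ G).left (IsLocalRing.closedPoint k)
  let C : Set X := Z.hom '' (d₀.left ⁻¹' {e})
  have hC : IsClopen C :=
    ⟨Z.hom.isClosedMap _ ((isClosed_discrete ({e} : Set G.left)).preimage d₀.left.continuous),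
      Z.hom.isOpenMap _ ((isOpen_discrete ({e} : Set G.left)).preimage d₀.left.continuous)⟩
  -- points over the unit are exactly the fibre product
  have hE : ∀ z : Z.left, d₀.left z = e → ∃ w : (pullback f₁ f₂).left, (pullback f₁ f₂).hom w = Z.hom z := by
    intro z hz
    have sq : IsPullback (pullback.fst d₀.left (η[G] : 𝟙_ (Over (Spec (CommRingCat.of k))) ⟶ G).left)
        (pullback.snd d₀.left (η[G] : 𝟙_ (Over (Spec (CommRingCat.of k))) ⟶ G).left) d₀.left
        (η[G] : 𝟙_ (Over (Spec (CommRingCat.of k))) ⟶ G).left := IsPullback.of_hasPullback _ _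
    obtain ⟨w, hw, -⟩ := Scheme.exists_preimage_of_isPullback sq z (IsLocalRing.closedPoint k) hz
    let W : Over X := Over.mk (pullback.fst d₀.left (η[G] : 𝟙_ (Over (Spec (CommRingCat.of k))) ⟶ G).left ≫ Z.hom)
    let wz : W ⟶ Z := Over.homMk (pullback.fst _ _)
    have hone : (Over.map (X ↘ Spec (CommRingCat.of k))).map wz ≫ d₀ = 1 := by
      refine Over.OverMorphism.ext ?_
      show pullback.fst _ _ ≫ d₀.left = _
      rw [pullback.condition, Hom.one_def, Over.comp_left]
      congr 1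
      have h := Over.w (toUnit ((Over.map (X ↘ Spec (CommRingCat.of k))).obj W))
      refine Eq.trans ?_ ((Category.comp_id _).symm.trans h).symm
      show pullback.snd _ _ = (pullback.fst _ _ ≫ Z.hom) ≫ _
      have h' := congrArg (· ≫ G.hom) (pullback.condition (f := d₀.left)
        (g := (η[G] : 𝟙_ (Over (Spec (CommRingCat.of k))) ⟶ G).left))
      simp only [Category.assoc, Over.w] at h'
      exact ((Category.comp_id _).symm.trans h'.symm).trans (Category.assoc _ _ _).symm
    have hd : wz ≫ d = 1 := by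
      rw [← up_dn d, comp_up, hone, up_one]
    have hff : (wz ≫ fst _ _) ≫ f₁ = (wz ≫ snd _ _) ≫ f₂ := by
      have := ratio_spec hT.1 (fst T₁ T₂ ≫ f₁) (snd T₁ T₂ ≫ f₂)
      rw [Category.assoc, Category.assoc, ← this, comp_act, hd, act_one]
    let l : W ⟶ pullback f₁ f₂ := pullback.lift _ _ hff
    refine ⟨l.left w, ?_⟩
    rw [← Scheme.Hom.comp_apply, Over.w l, ← hw]
    rfl
  have hne : C.Nonempty := by
    let p : atPt x (𝟙_ (Over (Spec (CommRingCat.of k)))) ⟶ Z :=
      lift (tpt ht₁ _) (tpt ht₂ _)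
    have hp : p ≫ d = 1 := by
      rw [comp_ratio, lift_fst_assoc, lift_snd_assoc]
      rw [show tpt ht₁ _ ≫ f₁ = tpt ht₂ _ ≫ f₂ from Over.OverMorphism.ext (by
        show (_ ≫ t₁) ≫ f₁.left = (_ ≫ t₂) ≫ f₂.left
        rw [Category.assoc, Category.assoc, hft])]
      exact ratio_self _ _
    have h1 : (Over.map (X ↘ Spec (CommRingCat.of k))).map p ≫ d₀ = 1 := by
      apply up_injective (Z := atPt x _) (s := X ↘ Spec (CommRingCat.of k))
      rw [← comp_up, up_dn, hp, up_one]
    refine ⟨_, p.left (IsLocalRing.closedPoint k), ?_, rfl⟩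
    show d₀.left (p.left (IsLocalRing.closedPoint k)) = e
    have h2 := congrArg (fun q => CommaMorphism.left q) h1
    simp only [Hom.one_def, Over.comp_left] at h2
    show (p.left ≫ d₀.left) (IsLocalRing.closedPoint k) = e
    refine (congrArg (fun q => q (IsLocalRing.closedPoint k)) h2).trans ?_
    show η[G].left _ = η[G].left _
    congr 1
    exact @Subsingleton.elim _ (inferInstanceAs (Subsingleton (PrimeSpectrum k))) _ _
  refine ⟨fun y => ?_⟩
  obtain ⟨z, hz, rfl⟩ : y ∈ C := by rw [hC.eq_univ hne]; exact Set.mem_univ y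
  exact hE z hz

end Groth.Agent.Nori
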