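import Groth.Agent.NoriFGSLib.SubTorsor
import Groth.Agent.FlatCxLib.Locus
import Groth.Agent.TorsExtLib.Cart
import Mathlib.AlgebraicGeometry.Morphisms.FlatRank

/-!
# A finite surjective pseudo-torsor under a finite group over a reduced base is flat
-/

set_option autoImplicit false
set_option backward.isDefEq.respectTransparency false
set_option linter.style.haveILetI false

noncomputable section

universe u

open CategoryTheory CategoryTheory.Limits MonoidalCategory CartesianMonoidalCategory AlgebraicGeometry
open scoped MonObj TensorProduct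

attribute [-instance] CategoryTheory.Hom.commGroup

namespace Groth.Agent.Nori

variable {k : Type u} [Field k] {X : Scheme.{u}} [X.Over (Spec (CommRingCat.of k))]

/-- A nonempty scheme finite over an algebraically closed field has a point. -/
theorem exists_algHom_of_nontrivial (L C : Type u) [Field L] [IsAlgClosed L] [CommRing C] [Algebra L C]
    [Module.Finite L C] [Nontrivial C] : Nonempty (C →ₐ[L] L) := by
  obtain ⟨M, hM⟩ := Ideal.exists_maximal C
  let : Field (C ⧸ M) := Ideal.Quotient.field M
  haveI : Algebra.IsIntegral L (C ⧸ M) := Algebra.IsIntegral.of_finite L _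
  let e : L ≃ₐ[L] (C ⧸ M) := AlgEquiv.ofBijective (Algebra.ofId L _)
    IsAlgClosed.algebraMap_bijective_of_isIntegral
  exact ⟨e.symm.toAlgHom.comp (Ideal.Quotient.mkₐ L M)⟩

variable {G : Over (Spec (CommRingCat.of k))} [GrpObj G] [IsFinite G.hom] {E : Over X}
  {c : AlgGrp.Action (Red.bc (X ↘ Spec (CommRingCat.of k)) G) E}

theorem fibreRank_eq (hc : NonAbH1.IsPseudoTorsorSch c) [IsFinite E.hom] [Surjective E.hom]
    {R S : CommRingCat.{u}} (i : Spec R ⟶ X) (j : Spec S ⟶ E.left) (ψ : R ⟶ S)
    (sq : IsPullback j (Spec.map ψ) E.hom i) (y : PrimeSpectrum R) :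
    (letI := ψ.hom.toAlgebra; FlatCxLib.fibreRank S y) = G.hom.finrank (IsLocalRing.closedPoint k) := by
  letI := ψ.hom.toAlgebra
  have hfin : IsFinite (Spec.map ψ) := MorphismProperty.of_isPullback sq ‹IsFinite E.hom›
  haveI : Module.Finite R S := (IsFinite.SpecMap_iff ψ).1 hfin
  haveI : Surjective (Spec.map ψ) := MorphismProperty.of_isPullback sq ‹Surjective E.hom›
  let L := AlgebraicClosure y.asIdeal.ResidueField
  haveI : FaithfulSMul y.asIdeal.ResidueField L := inferInstance
  have hker : RingHom.ker (algebraMap R L) = y.asIdeal := by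
    rw [IsScalarTower.algebraMap_eq R y.asIdeal.ResidueField L, ← RingHom.comap_ker,
      (RingHom.injective_iff_ker_eq_bot _).1 (algebraMap y.asIdeal.ResidueField L).injective,
      ← RingHom.ker_eq_comap_bot, Ideal.ker_algebraMap_residueField]
  rw [← FlatCxLib.finrank_tensor_field S L y hker]
  let C := L ⊗[R] S
  let q : Spec (CommRingCat.of C) ⟶ Spec (CommRingCat.of L) := Spec.map (CommRingCat.ofHom (algebraMap L C))
  let r : Spec (CommRingCat.of C) ⟶ Spec S :=
    Spec.map (CommRingCat.ofHom (Algebra.TensorProduct.includeRight : S →ₐ[R] C).toRingHom)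
  have sq₀ : IsPullback q r (Spec.map (CommRingCat.ofHom (algebraMap R L))) (Spec.map ψ) :=
    isPullback_SpecMap_of_isPushout _ _ _ _ (CommRingCat.isPushout_tensorProduct R L S)
  haveI : Surjective q := MorphismProperty.of_isPullback sq₀.flip ‹Surjective (Spec.map ψ)›
  haveI : Nontrivial C := by
    obtain ⟨P, -⟩ := q.surjective (IsLocalRing.closedPoint L)
    exact (PrimeSpectrum.nonempty_iff_nontrivial (R := C)).1 ⟨P⟩
  obtain ⟨χ⟩ := exists_algHom_of_nontrivial L C
  let il : Spec (CommRingCat.of L) ⟶ X := Spec.map (CommRingCat.ofHom (algebraMap R L)) ≫ i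
  have sqE : IsPullback (r ≫ j) q E.hom il := sq₀.flip.paste_horiz sq
  let e : Spec (CommRingCat.of L) ⟶ E.left := Spec.map (CommRingCat.ofHom χ.toRingHom) ≫ r ≫ j
  have he : e ≫ E.hom = il := by
    simp only [e, Category.assoc]
    rw [← Category.assoc r, sqE.w, ← Category.assoc]
    have : Spec.map (CommRingCat.ofHom χ.toRingHom) ≫ q = 𝟙 _ := by
      rw [← Spec.map_comp, ← Spec.map_id]
      congr 1
      exact CommRingCat.hom_ext (RingHom.ext fun l => χ.commutes l)
    rw [this, Category.id_comp]
  let W : Over X := Over.mk il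
  let p : W ⟶ E := Over.homMk e he
  haveI := TorsExtLib.isIso_orb c hc p
  let Φ := TorsExtLib.orb c p
  haveI : IsIso Φ.left := (Over.forget _).map_isIso Φ
  have hΦ : Φ.left ≫ (snd E W).left = (snd (Red.bc (X ↘ Spec (CommRingCat.of k)) G) W).left := by
    rw [← Over.comp_left]
    congr 1
    exact lift_snd _ _
  let PX : Over X := Red.bc (X ↘ Spec (CommRingCat.of k)) G
  haveI : IsFinite PX.hom := MorphismProperty.pullback_snd (P := @IsFinite) G.hom _ ‹_›
  haveI : Flat PX.hom := MorphismProperty.pullback_snd (P := @Flat) G.hom _ (inferInstanceAs (Flat G.hom))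
  haveI : IsFinite q := MorphismProperty.of_isPullback sqE ‹IsFinite E.hom›
  haveI : Flat q := inferInstance
  have h1 : IsPullback (fst E W).left (snd E W).left E.hom il := IsPullback.of_hasPullback _ _
  have h2 : IsPullback (fst PX W).left (snd PX W).left PX.hom il := IsPullback.of_hasPullback _ _
  haveI : IsFinite (snd E W).left := MorphismProperty.of_isPullback h1 ‹IsFinite E.hom›
  haveI : Flat (snd E W).left := by
    show Flat (pullback.snd E.hom il)
    infer_instance
  have e1 : q.finrank (IsLocalRing.closedPoint L) = Module.finrank L C := by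
    show (Spec.map (CommRingCat.ofHom (algebraMap L C))).finrank _ = _
    rw [Scheme.Hom.finrank_SpecMap_algebraMap, Module.rankAtStalk_eq_finrank_of_free]
    rfl
  have e2 : q = (sqE.isoIsPullback _ _ h1).hom ≫ (snd E W).left := (IsPullback.isoIsPullback_hom_snd _ _ _ _).symm
  rw [← e1, e2, Scheme.Hom.finrank_comp_left_of_isIso, ← Scheme.Hom.finrank_comp_left_of_isIso Φ.left, hΦ,
    Scheme.Hom.finrank_of_isPullback _ _ _ _ h2]
  show (pullback.snd G.hom _).finrank _ = _
  rw [Scheme.Hom.finrank_pullback_snd]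
  congr 1
  exact @Subsingleton.elim _ (inferInstanceAs (Subsingleton (PrimeSpectrum k))) _ _

/-- A finite surjective pseudo-torsor under a finite group over a reduced scheme is flat. -/
theorem flat_of_isPseudoTorsorSch [AlgebraicGeometry.IsReduced X] (hc : NonAbH1.IsPseudoTorsorSch c)
    [IsFinite E.hom] [LocallyOfFinitePresentation E.hom] [Surjective E.hom] : Flat E.hom := by
  refine IsZariskiLocalAtTarget.of_iSup_eq_top (fun U : X.affineOpens => U.1) (iSup_affineOpens_eq_top X) fun U => ?_
  haveI : IsAffine (U.1 : Scheme.{u}) := U.2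
  let h := E.hom ∣_ U.1
  haveI : IsFinite h := MorphismProperty.of_isPullback (isPullback_morphismRestrict E.hom U.1).flip ‹IsFinite E.hom›
  haveI : LocallyOfFinitePresentation h :=
    MorphismProperty.of_isPullback (isPullback_morphismRestrict E.hom U.1).flip ‹LocallyOfFinitePresentation E.hom›
  haveI : IsAffine (E.hom ⁻¹ᵁ U.1 : Scheme.{u}) := isAffine_of_isAffineHom h
  let R := Γ((U.1 : Scheme.{u}), ⊤)
  let S := Γ((E.hom ⁻¹ᵁ U.1 : Scheme.{u}), ⊤)
  let ψ : R ⟶ S := h.appTop
  have sq : IsPullback ((E.hom ⁻¹ᵁ U.1 : Scheme.{u}).isoSpec.inv ≫ (E.hom ⁻¹ᵁ U.1).ι) (Spec.map ψ) E.hom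
      ((U.1 : Scheme.{u}).isoSpec.inv ≫ U.1.ι) :=
    (IsPullback.of_horiz_isIso ⟨(Scheme.isoSpec_inv_naturality h).symm⟩).paste_horiz
      (isPullback_morphismRestrict E.hom U.1).flip
  letI := ψ.hom.toAlgebra
  have hfin : ψ.hom.Finite := h.finite_appTop
  haveI : Module.Finite R S := hfin
  haveI : Algebra.FinitePresentation R S := HasRingHomProperty.appTop (P := @LocallyOfFinitePresentation) h inferInstance
  haveI : Module.FinitePresentation R S := Module.FinitePresentation.of_finite_of_finitePresentation R S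
  haveI : IsReduced (U.1 : Scheme.{u}) := isReduced_of_isOpenImmersion U.1.ι
  haveI : _root_.IsReduced R := inferInstance
  have hflat : ψ.hom.Flat := FlatCxLib.flat_of_isLocallyConstant S (by
    rw [show (FlatCxLib.fibreRank S : PrimeSpectrum R → ℕ) = fun _ => G.hom.finrank (IsLocalRing.closedPoint k) from
      funext fun y => fibreRank_eq hc _ _ ψ sq y]
    exact IsLocallyConstant.const _)
  exact (HasRingHomProperty.iff_of_isAffine (P := @Flat)).2 hflat

end Groth.Agent.Nori
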