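import Groth.Agent.NoriFGSLib.Action
import Groth.Agent.TorsSeqLib.Descend
import Groth.Agent.FinHomLib.Affine
import Groth.Agent.GrpHomLib.Image

/-!
# Points of base changed groups, pointed schemes, local factorisations
-/

set_option autoImplicit false
set_option backward.isDefEq.respectTransparency false
set_option linter.style.haveILetI false

noncomputable section

universe u

open CategoryTheory CategoryTheory.Limits MonoidalCategory CartesianMonoidalCategory AlgebraicGeometry
open scoped MonObj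

attribute [-instance] CategoryTheory.Hom.commGroup

namespace Groth.Agent.Nori

section general

variable {S X : Scheme.{u}} {s : X ⟶ S}

theorem isPullback_pullback_map (s : X ⟶ S) {G G' : Over S} (φ : G ⟶ G') :
    IsPullback ((Over.pullback s).map φ).left (pullback.fst G.hom s) (pullback.fst G'.hom s) φ.left := by
  refine IsPullback.flip (IsPullback.of_bot ?_ (ActBC.pullback_map_left_fst s φ).symm
    (IsPullback.of_hasPullback G'.hom s))
  have : ((Over.pullback s).map φ).left ≫ pullback.snd G'.hom s = pullback.snd G.hom s :=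
    Over.w ((Over.pullback s).map φ)
  rw [this, Over.w φ]
  exact IsPullback.of_hasPullback G.hom s

theorem isClosedImmersion_map (s : X ⟶ S) {G G' : Over S} (φ : G ⟶ G') [IsClosedImmersion φ.left] :
    IsClosedImmersion ((Over.pullback s).map φ).left :=
  MorphismProperty.of_isPullback (P := @IsClosedImmersion) (isPullback_pullback_map s φ).flip ‹_›

theorem mono_map (s : X ⟶ S) {G G' : Over S} (φ : G ⟶ G') [IsClosedImmersion φ.left] :
    Mono ((Over.pullback s).map φ) := by
  haveI := isClosedImmersion_map s φ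
  exact Over.mono_of_mono_left _

theorem dominant_map (s : X ⟶ S) [Flat s] {G G' : Over S} (φ : G ⟶ G') [IsSchemeTheoreticallyDominant φ.left]
    [QuasiCompact φ.left] : IsSchemeTheoreticallyDominant ((Over.pullback s).map φ).left ∧
      QuasiCompact ((Over.pullback s).map φ).left := by
  haveI : Flat (pullback.fst G'.hom s) := MorphismProperty.pullback_fst (P := @Flat) _ _ ‹Flat s›
  exact ⟨IsSchemeTheoreticallyDominant.of_isPullback (isPullback_pullback_map s φ).flip,
    MorphismProperty.of_isPullback (isPullback_pullback_map s φ).flip ‹QuasiCompact φ.left›⟩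

theorem isPullback_whiskerRight (P : Over S) {T T' : Over S} (g : T' ⟶ T) :
    IsPullback (g ▷ P).left (fst T' P).left (fst T P).left g.left := by
  have h1 : IsPullback (fst T' P).left (snd T' P).left T'.hom P.hom := IsPullback.of_hasPullback T'.hom P.hom
  have h2 : IsPullback (fst T P).left (snd T P).left T.hom P.hom := IsPullback.of_hasPullback T.hom P.hom
  refine IsPullback.flip (IsPullback.of_bot ?_ (by rw [← Over.comp_left, ← Over.comp_left, whiskerRight_fst]) h2)
  rw [← Over.comp_left, whiskerRight_snd, Over.w g]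
  exact h1

theorem dominant_whiskerRight (P : Over S) [Flat P.hom] {T T' : Over S} (g : T' ⟶ T)
    [IsSchemeTheoreticallyDominant g.left] [QuasiCompact g.left] :
    IsSchemeTheoreticallyDominant (g ▷ P).left := by
  haveI : Flat (fst T P).left := MorphismProperty.pullback_fst (P := @Flat) _ _ ‹Flat P.hom›
  exact IsSchemeTheoreticallyDominant.of_isPullback (isPullback_whiskerRight P g).flip

/-- Factorisation through a monomorphism is local for a locally trivial scheme. -/
theorem exists_factor_local {P : Over S} (hP : NonAbH1.IsLocallyTrivialFor Scheme.fpqcPrecoverage P) {V T Z : Over S}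
    (j : V ⟶ T) [Mono j] (z : Z ⟶ T) (h : ∃ v : Z ⊗ P ⟶ V, v ≫ j = fst Z P ≫ z) : ∃ v : Z ⟶ V, v ≫ j = z := by
  obtain ⟨v, hv⟩ := h
  obtain ⟨ψ, hψ⟩ := TorsSeqLib.descend hP v fun W w q q' => by
    rw [← cancel_mono j, Category.assoc, Category.assoc, hv, lift_fst_assoc, lift_fst_assoc]
  exact ⟨ψ, TorsSeqLib.ext_cover hP _ _ fun W w q => by
    rw [reassoc_of% (hψ W w q), hv, lift_fst_assoc]⟩

variable {G G' : Over S} {Z Z' : Over X}

/-- The point of a base changed group attached to a point of the group. -/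
abbrev up (g : (Over.map s).obj Z ⟶ G) : Z ⟶ Red.bc s G := (Over.mapPullbackAdj s).homEquiv Z G g

/-- The point of a group attached to a point of the base changed group. -/
abbrev dn (g : Z ⟶ Red.bc s G) : (Over.map s).obj Z ⟶ G := ((Over.mapPullbackAdj s).homEquiv Z G).symm g

theorem up_dn (g : Z ⟶ Red.bc s G) : up (dn g) = g := Equiv.apply_symm_apply _ g

theorem dn_up (g : (Over.map s).obj Z ⟶ G) : dn (up g) = g := Equiv.symm_apply_apply _ g

theorem up_injective {g g' : (Over.map s).obj Z ⟶ G} (h : up g = up g') : g = g' :=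
  ((Over.mapPullbackAdj s).homEquiv Z G).injective h

theorem comp_up (w : Z' ⟶ Z) (g : (Over.map s).obj Z ⟶ G) : w ≫ up g = up ((Over.map s).map w ≫ g) :=
  (Adjunction.homEquiv_naturality_left _ _ _).symm

theorem up_comp (g : (Over.map s).obj Z ⟶ G) (φ : G ⟶ G') : up g ≫ (Over.pullback s).map φ = up (g ≫ φ) :=
  (Adjunction.homEquiv_naturality_right _ _ _).symm

variable [GrpObj G]

theorem up_mul (g g' : (Over.map s).obj Z ⟶ G) : up (g * g') = up g * up g' := AlgGrp.Action.homEquiv_mul s g g'

theorem up_one : up (1 : (Over.map s).obj Z ⟶ G) = 1 :=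
  mul_left_cancel (a := up (1 : (Over.map s).obj Z ⟶ G)) (by rw [← up_mul, mul_one, mul_one])

theorem up_inv (g : (Over.map s).obj Z ⟶ G) : up g⁻¹ = (up g)⁻¹ :=
  eq_inv_of_mul_eq_one_left (by rw [← up_mul, inv_mul_cancel, up_one])

end general

section pointed

variable {k : Type u} [Field k] {X : Scheme.{u}} {s : X ⟶ Spec (CommRingCat.of k)}
  {x : Spec (CommRingCat.of k) ⟶ X} (hx : x ≫ s = 𝟙 _)
  {G G' Z Z' : Over (Spec (CommRingCat.of k))}

/-- A scheme over the field as a scheme over `X` through the point. -/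
abbrev atPt (x : Spec (CommRingCat.of k) ⟶ X) (Z : Over (Spec (CommRingCat.of k))) : Over X := (Over.map x).obj Z

/-- Forgetting the point again. -/
def atPtIso (hx : x ≫ s = 𝟙 _) (Z : Over (Spec (CommRingCat.of k))) : (Over.map s).obj (atPt x Z) ≅ Z :=
  Over.isoMk (Iso.refl _) (by
    show 𝟙 _ ≫ Z.hom = (Z.hom ≫ x) ≫ s
    rw [Category.assoc, hx, Category.comp_id, Category.id_comp])

/-- The point of the base changed group over the rational point. -/
def pt (g : Z ⟶ G) : atPt x Z ⟶ Red.bc s G := up ((atPtIso hx Z).hom ≫ g)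

theorem pt_comp (g : Z ⟶ G) (φ : G ⟶ G') : pt hx g ≫ (Over.pullback s).map φ = pt hx (g ≫ φ) := by
  rw [pt, up_comp, Category.assoc]; rfl

theorem comp_pt (w : Z' ⟶ Z) (g : Z ⟶ G) : (Over.map x).map w ≫ pt hx g = pt hx (w ≫ g) := by
  rw [pt, comp_up, pt]
  congr 1

theorem pt_injective {g g' : Z ⟶ G} (h : pt hx g = pt hx g') : g = g' :=
  (cancel_epi (atPtIso hx Z).hom).1 (up_injective h)

theorem exists_pt (h : atPt x Z ⟶ Red.bc s G) : ∃ g : Z ⟶ G, pt hx g = h :=
  ⟨(atPtIso hx Z).inv ≫ dn h, by rw [pt, Iso.hom_inv_id_assoc, up_dn]⟩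

variable [GrpObj G]

theorem pt_mul (g g' : Z ⟶ G) : pt hx (g * g') = pt hx g * pt hx g' := by
  rw [pt, MonObj.comp_mul, up_mul]; rfl

theorem pt_one : pt hx (1 : Z ⟶ G) = 1 := by rw [pt, MonObj.comp_one, up_one]

variable {T : Over X} {t : Spec (CommRingCat.of k) ⟶ T.left} (ht : t ≫ T.hom = x)

/-- The marked point with values in a scheme over the field. -/
def tpt (Z : Over (Spec (CommRingCat.of k))) : atPt x Z ⟶ T :=
  Over.homMk (Z.hom ≫ t) (by rw [Category.assoc, ht]; rfl)

theorem comp_tpt (w : Z' ⟶ Z) : (Over.map x).map w ≫ tpt ht Z = tpt ht Z' :=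
  Over.OverMorphism.ext (by
    show w.left ≫ Z.hom ≫ t = Z'.hom ≫ t
    rw [Over.w_assoc w])

theorem tpt_comp {T' : Over X} (f : T ⟶ T') {t' : Spec (CommRingCat.of k) ⟶ T'.left} (ht' : t' ≫ T'.hom = x)
    (h : t ≫ f.left = t') : tpt ht Z ≫ f = tpt ht' Z :=
  Over.OverMorphism.ext (by
    show (Z.hom ≫ t) ≫ f.left = Z.hom ≫ t'
    rw [Category.assoc, h])

variable (b : AlgGrp.Action (Red.bc s G) T)

/-- The translate of the marked point by a point of the group. -/
def orbit (g : Z ⟶ G) : atPt x Z ⟶ T := act b (pt hx g) (tpt ht Z)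

theorem comp_orbit (w : Z' ⟶ Z) (g : Z ⟶ G) : (Over.map x).map w ≫ orbit hx ht b g = orbit hx ht b (w ≫ g) := by
  rw [orbit, comp_act, comp_pt, comp_tpt]; rfl

theorem orbit_mul (g g' : Z ⟶ G) : orbit hx ht b (g * g') = act b (pt hx g) (orbit hx ht b g') := by
  rw [orbit, pt_mul, act_mul]; rfl

theorem orbit_one : orbit hx ht b (1 : Z ⟶ G) = tpt ht Z := by rw [orbit, pt_one, act_one]

variable {b} (hb : NonAbH1.IsPseudoTorsorSch b)

include hb in
theorem orbit_injective {g g' : Z ⟶ G} (h : orbit hx ht b g = orbit hx ht b g') : g = g' :=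
  pt_injective hx (act_left_cancel hb h)

include hb in
theorem exists_orbit_eq (p : atPt x Z ⟶ T) : ∃ g : Z ⟶ G, orbit hx ht b g = p := by
  obtain ⟨g, hg, -⟩ := existsUnique_act hb (tpt ht Z) p
  obtain ⟨g₀, rfl⟩ := exists_pt hx g
  exact ⟨g₀, hg⟩

include hx ht hb in
/-- A closed subgroup whose sub-torsor is everything is everything. -/
theorem isIso_of_isIso_subtorsor {H : Over (Spec (CommRingCat.of k))} [GrpObj H] (i : H ⟶ G) [IsMonHom i]
    [IsClosedImmersion i.left] {V : Over X} (c : AlgGrp.Action (Red.bc s H) V) (hc : NonAbH1.IsPseudoTorsorSch c)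
    (j : V ⟶ T) [IsIso j] (hj : AlgGrp.Action.IsEquivariant c (b.restrict ((Over.pullback s).map i)) j) :
    IsIso i := by
  have hj' := (isEquivariant_iff c b _ j).1 hj
  haveI : Mono i := Over.mono_of_mono_left i
  obtain ⟨h, hh, -⟩ := existsUnique_act hc (tpt ht G ≫ inv j) (orbit hx ht b (𝟙 G) ≫ inv j)
  obtain ⟨h₀, rfl⟩ := exists_pt hx h
  have e := congrArg (· ≫ j) hh
  simp only [Category.assoc, IsIso.inv_hom_id, Category.comp_id] at e
  have e' := hj' _ (pt hx h₀) (tpt ht G ≫ inv j)
  simp only [Category.assoc, IsIso.inv_hom_id, Category.comp_id, pt_comp] at e'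
  have he : h₀ ≫ i = 𝟙 G := orbit_injective hx ht hb (e'.symm.trans ((Category.assoc _ _ _).trans e))
  exact ⟨h₀, by rw [← cancel_mono i, Category.assoc, he, Category.comp_id, Category.id_comp], he⟩

end pointed

end Groth.Agent.Nori
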