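import Groth.Agent.NoriFGSLib.Action
import Groth.Agent.TorsSeqLib.Descend
import Groth.Agent.DescLib.Main
import Groth.Agent.DescHomLib.Epi

/-!
# The pushforward of an fpqc torsor to an affine group, by descent of affine schemes
-/

set_option autoImplicit false
set_option backward.isDefEq.respectTransparency false
set_option backward.isDefEq.respectTransparency.types false
set_option linter.style.haveILetI false

noncomputable section

universe u

open CategoryTheory CategoryTheory.Limits MonoidalCategory CartesianMonoidalCategory AlgebraicGeometry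
open scoped MonObj

attribute [-instance] CategoryTheory.Hom.commGroup

namespace Groth.Agent.Nori

variable {S : Scheme.{u}}

/-- A trivialising morphism which is an fpqc cover by itself. -/
theorem exists_fpqc_point {X : Over S} (h : NonAbH1.IsLocallyTrivialFor Scheme.fpqcPrecoverage X) :
    ∃ (Z : Scheme.{u}) (π : Z ⟶ S), DescLib.Fpqc π ∧ Nonempty (Over.mk π ⟶ X) := by
  choose W c hfl hsur hqc hpt using fun U : S.affineOpens => TorsFpqc.exists_local_section h U.2
  let π : (∐ W : Scheme.{u}) ⟶ S := Limits.Sigma.desc fun U => c U ≫ U.1.ι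
  haveI hπ : Flat π := IsZariskiLocalAtSource.of_openCover (P := @Flat) (sigmaOpenCover W) fun U => by
    change Flat (Sigma.ι W U ≫ π)
    haveI := hfl U
    rw [Sigma.ι_desc]; infer_instance
  have hrange : ∀ U : S.affineOpens, Set.range (c U ≫ U.1.ι) = (U.1 : Set S) := fun U => by
    haveI := hsur U
    rw [Scheme.Hom.comp_base, TopCat.coe_comp, Set.range_comp, (c U).surjective.range_eq, Set.image_univ,
      Scheme.Opens.range_ι]
  haveI : Surjective π := ⟨fun s => by
    obtain ⟨V, hV, hs, -⟩ := TopologicalSpace.Opens.isBasis_iff_nbhd.mp S.isBasis_affineOpens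
      (TopologicalSpace.Opens.mem_top s)
    obtain ⟨w, hw⟩ := (hrange ⟨V, hV⟩).symm ▸ (show s ∈ (V : Set S) from hs)
    exact ⟨Sigma.ι W ⟨V, hV⟩ w, by rw [← Scheme.Hom.comp_apply, Sigma.ι_desc]; exact hw⟩⟩
  refine ⟨_, π, ⟨DescHom.singleton_mem_fpqc π fun V hV => ?_⟩,
    ⟨Over.homMk (Limits.Sigma.desc fun U => (hpt U).some.left) (Sigma.hom_ext _ _ fun U => by
      rw [Sigma.ι_desc_assoc]
      show _ = Sigma.ι W U ≫ π
      simp only [π, Sigma.ι_desc]
      exact Over.w (hpt U).some)⟩⟩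
  haveI := hqc ⟨V, hV⟩
  haveI : IsAffine V.toScheme := hV
  haveI : CompactSpace (W ⟨V, hV⟩) := QuasiCompact.compactSpace_of_compactSpace (c ⟨V, hV⟩)
  refine ⟨(Sigma.ι W ⟨V, hV⟩).opensRange, isCompact_range (Sigma.ι W ⟨V, hV⟩).continuous, ?_⟩
  rw [Scheme.Hom.coe_opensRange, ← Set.range_comp, ← TopCat.coe_comp, ← Scheme.Hom.comp_base, Sigma.ι_desc]
  exact hrange ⟨V, hV⟩

/-- The ratio of two points of a pseudo-torsor. -/
def ratio {G X T : Over S} [GrpObj G] {a : AlgGrp.Action G X} (ha : NonAbH1.IsPseudoTorsorSch a) (x y : T ⟶ X) :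
    T ⟶ G :=
  (existsUnique_act ha y x).choose

section ratio

variable {G X T T' : Over S} [GrpObj G] {a : AlgGrp.Action G X} (ha : NonAbH1.IsPseudoTorsorSch a)

theorem ratio_spec (x y : T ⟶ X) : act a (ratio ha x y) y = x :=
  (existsUnique_act ha y x).choose_spec.1

theorem ratio_eq {g : T ⟶ G} {x y : T ⟶ X} (h : act a g y = x) : ratio ha x y = g :=
  act_left_cancel ha ((ratio_spec ha x y).trans h.symm)

theorem ratio_self (x : T ⟶ X) : ratio ha x x = 1 := ratio_eq ha (act_one a x)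

theorem ratio_mul (x y z : T ⟶ X) : ratio ha x y * ratio ha y z = ratio ha x z :=
  (ratio_eq ha (by rw [act_mul, ratio_spec, ratio_spec])).symm

theorem comp_ratio (w : T' ⟶ T) (x y : T ⟶ X) : w ≫ ratio ha x y = ratio ha (w ≫ x) (w ≫ y) :=
  (ratio_eq ha (by rw [← comp_act, ratio_spec])).symm

theorem ratio_act (g : T ⟶ G) (x y : T ⟶ X) : ratio ha (act a g x) y = g * ratio ha x y :=
  ratio_eq ha (by rw [act_mul, ratio_spec])

end ratio

namespace Push

variable {J J' P : Over S} [GrpObj J] [GrpObj J'] (u : J ⟶ J') [IsMonHom u] {a : AlgGrp.Action J P}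
  (ha : NonAbH1.IsPseudoTorsorSch a) {Z : Scheme.{u}} (π : Z ⟶ S) (q : Over.mk π ⟶ P)

/-- The transition element between two points of the cover. -/
def tr {T : Over S} (z₀ z₁ : T ⟶ Over.mk π) : T ⟶ J' := ratio ha (z₀ ≫ q) (z₁ ≫ q) ≫ u

theorem tr_self {T : Over S} (z : T ⟶ Over.mk π) : tr u ha π q z z = 1 := by
  rw [tr, ratio_self, MonObj.one_comp]

theorem tr_mul {T : Over S} (z₀ z₁ z₂ : T ⟶ Over.mk π) :
    tr u ha π q z₀ z₁ * tr u ha π q z₁ z₂ = tr u ha π q z₀ z₂ := by
  rw [tr, tr, tr, ← MonObj.mul_comp, ratio_mul]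

theorem comp_tr {T T' : Over S} (w : T' ⟶ T) (z₀ z₁ : T ⟶ Over.mk π) :
    w ≫ tr u ha π q z₀ z₁ = tr u ha π q (w ≫ z₀) (w ≫ z₁) := by
  rw [tr, tr, ← Category.assoc, comp_ratio, Category.assoc, Category.assoc]

/-- A point of the group over the cover. -/
abbrev pr {T : Over S} (g : T ⟶ J') (z : T ⟶ Over.mk π) : T.left ⟶ pullback J'.hom π :=
  pullback.lift g.left z.left ((Over.w g).trans (Over.w z).symm)

variable {T : Scheme.{u}} (x₀ x₁ : T ⟶ Z) (h : x₀ ≫ π = x₁ ≫ π)

/-- The first point. -/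
abbrev z₀ : Over.mk (x₀ ≫ π) ⟶ Over.mk π := Over.homMk x₀

/-- The second point. -/
abbrev z₁ : Over.mk (x₀ ≫ π) ⟶ Over.mk π := Over.homMk x₁ h.symm

/-- The group component of a lift. -/
abbrev grpPart (v : Desc.Lifts (Over.mk (pullback.snd J'.hom π)) x₀) : Over.mk (x₀ ≫ π) ⟶ J' :=
  Over.homMk (v.1 ≫ pullback.fst J'.hom π) (by
    have e : v.1 ≫ pullback.snd J'.hom π = x₀ := v.2
    change (v.1 ≫ pullback.fst J'.hom π) ≫ J'.hom = x₀ ≫ π
    rw [Category.assoc, pullback.condition, reassoc_of% e])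

/-- The glueing. -/
def glue (v : Desc.Lifts (Over.mk (pullback.snd J'.hom π)) x₀) : Desc.Lifts (Over.mk (pullback.snd J'.hom π)) x₁ :=
  ⟨pr π (grpPart π x₀ v * tr u ha π q (z₀ π x₀) (z₁ π x₀ x₁ h)) (z₁ π x₀ x₁ h), pullback.lift_snd _ _ _⟩

theorem glue_eq {W : Over S} (y₀ y₁ : W ⟶ Over.mk π) (g : W ⟶ J') (h : y₀.left ≫ π = y₁.left ≫ π)
    (v : Desc.Lifts (Over.mk (pullback.snd J'.hom π)) y₀.left) (hv : v.1 = pr π g y₀) :
    (glue u ha π q y₀.left y₁.left h v).1 = pr π (g * tr u ha π q y₀ y₁) y₁ := by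
  let i : W ⟶ Over.mk (y₀.left ≫ π) := Over.homMk (𝟙 W.left) ((Category.id_comp _).trans (Over.w y₀))
  have hg : i ≫ grpPart π y₀.left v = g := Over.OverMorphism.ext (by
    change 𝟙 W.left ≫ v.1 ≫ pullback.fst J'.hom π = g.left
    rw [Category.id_comp, hv, pullback.lift_fst])
  have h0 : i ≫ z₀ π y₀.left = y₀ := Over.OverMorphism.ext (Category.id_comp _)
  have h1 : i ≫ z₁ π y₀.left y₁.left h = y₁ := Over.OverMorphism.ext (Category.id_comp _)
  have e : g * tr u ha π q y₀ y₁
      = i ≫ (grpPart π y₀.left v * tr u ha π q (z₀ π y₀.left) (z₁ π y₀.left y₁.left h)) := by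
    rw [MonObj.comp_mul, hg, comp_tr, h0, h1]
  refine pullback.hom_ext ?_ ?_
  · rw [pullback.lift_fst, e]
    exact (pullback.lift_fst _ _ _).trans (Category.id_comp _).symm
  · rw [pullback.lift_snd]
    exact pullback.lift_snd _ _ _

theorem glue_self (v : Desc.Lifts (Over.mk (pullback.snd J'.hom π)) x₀) : glue u ha π q x₀ x₀ rfl v = v := by
  refine Subtype.ext ((glue_eq u ha π q (z₀ π x₀) (z₀ π x₀) (grpPart π x₀ v) rfl v ?_).trans ?_)
  · exact pullback.hom_ext (pullback.lift_fst _ _ _).symm (v.2.trans (pullback.lift_snd _ _ _).symm)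
  · rw [tr_self, mul_one]
    exact (pullback.hom_ext (pullback.lift_fst _ _ _).symm (v.2.trans (pullback.lift_snd _ _ _).symm)).symm

theorem glue_glue (x₂ : T ⟶ Z) (h' : x₁ ≫ π = x₂ ≫ π) (v : Desc.Lifts (Over.mk (pullback.snd J'.hom π)) x₀) :
    glue u ha π q x₁ x₂ h' (glue u ha π q x₀ x₁ h v) = glue u ha π q x₀ x₂ (h.trans h') v := by
  let y₂ : Over.mk (x₀ ≫ π) ⟶ Over.mk π := Over.homMk x₂ (h.trans h').symm
  refine Subtype.ext ((glue_eq u ha π q (z₁ π x₀ x₁ h) y₂ _ h' (glue u ha π q x₀ x₁ h v) rfl).trans ?_)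
  rw [mul_assoc, tr_mul]
  rfl

/-- The descent datum. -/
def datum : Desc.SchDD π where
  obj := Over.mk (pullback.snd J'.hom π)
  φ T x₀ x₁ h :=
    { toFun := glue u ha π q x₀ x₁ h
      invFun := glue u ha π q x₁ x₀ h.symm
      left_inv := fun v => by rw [glue_glue, glue_self]
      right_inv := fun v => by rw [glue_glue, glue_self] }
  φ_natural T T' g x₀ x₁ h h' v v' hv := by
    let w : Over.mk (x₀ ≫ π) ⟶ Over.mk π := z₁ π x₀ x₁ h
    let i : Over.mk ((g ≫ x₀) ≫ π) ⟶ Over.mk (x₀ ≫ π) := Over.homMk g (Category.assoc _ _ _).symm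
    show (glue u ha π q (g ≫ x₀) (g ≫ x₁) h' v').1 = g ≫ (glue u ha π q x₀ x₁ h v).1
    refine (glue_eq u ha π q (i ≫ z₀ π x₀) (i ≫ w) (i ≫ grpPart π x₀ v) h' v' ?_).trans ?_
    · refine pullback.hom_ext ?_ ?_
      · refine Eq.trans ?_ (pullback.lift_fst _ _ _).symm
        rw [hv]; exact Category.assoc _ _ _
      · exact v'.2.trans (pullback.lift_snd _ _ _).symm
    · rw [← comp_tr, ← MonObj.comp_mul]
      refine pullback.hom_ext ?_ ?_
      · exact (pullback.lift_fst _ _ _).trans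
          ((congrArg (g ≫ ·) (pullback.lift_fst _ _ _).symm).trans (Category.assoc _ _ _).symm)
      · exact (pullback.lift_snd _ _ _).trans
          ((congrArg (g ≫ ·) (pullback.lift_snd _ _ _).symm).trans (Category.assoc _ _ _).symm)
  φ_self T x v := glue_self u ha π q x v
  φ_comp T x₀ x₁ x₂ h₀₁ h₁₂ v := glue_glue u ha π q x₀ x₁ h₀₁ x₂ h₁₂ v

end Push

open Push in
/-- The pushforward of a torsor along a homomorphism to an affine group exists. -/
theorem exists_push {J J' P : Over S} [GrpObj J] [GrpObj J'] [IsAffineHom J'.hom] (u : J ⟶ J') [IsMonHom u]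
    (a : AlgGrp.Action J P) (ha : NonAbH1.IsTorsorFor Scheme.fpqcPrecoverage a) :
    ∃ (P' : Over S) (a' : AlgGrp.Action J' P') (f : P ⟶ P'), NonAbH1.IsTorsorFor Scheme.fpqcPrecoverage a' ∧
      ∀ (T : Over S) (g : T ⟶ J) (x : T ⟶ P), act a g x ≫ f = act a' (g ≫ u) (x ≫ f) := by
  obtain ⟨Z, π, hπ, ⟨q⟩⟩ := exists_fpqc_point ha.2
  haveI := hπ
  haveI : IsAffineHom (datum u ha.1 π q).obj.hom :=
    MorphismProperty.pullback_snd (P := @IsAffineHom) J'.hom π ‹IsAffineHom J'.hom›
  obtain ⟨U, ⟨e⟩⟩ := DescLib.effective_of_isAffineHom (datum u ha.1 π q)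
  let C : Over S := Over.mk π
  have hC : NonAbH1.IsLocallyTrivialFor Scheme.fpqcPrecoverage C :=
    ⟨_, hπ.mem, fun S' g hg => by
      obtain ⟨⟩ := hg
      exact ⟨𝟙 Z, Category.id_comp π⟩⟩
  -- the trivialisation over the cover
  let E {T : Over S} (x : T ⟶ U) (z : T ⟶ C) : T.left ⟶ pullback π U.hom :=
    pullback.lift z.left x.left ((Over.w z).trans (Over.w x).symm)
  have he : e.hom.hom.left ≫ pullback.snd J'.hom π = pullback.fst π U.hom := Over.w e.hom.hom
  have he' : e.inv.hom.left ≫ pullback.fst π U.hom = pullback.snd J'.hom π := Over.w e.inv.hom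
  have heq₁ : e.hom.hom.left ≫ e.inv.hom.left = 𝟙 _ :=
    congrArg (fun m => m.hom.left) e.hom_inv_id
  have heq₂ : e.inv.hom.left ≫ e.hom.hom.left = 𝟙 _ :=
    congrArg (fun m => m.hom.left) e.inv_hom_id
  let m : U ⊗ C ⟶ J' := Over.homMk (E (fst U C) (snd U C) ≫ e.hom.hom.left ≫ pullback.fst J'.hom π) (by
    rw [Category.assoc, Category.assoc, pullback.condition, reassoc_of% he, pullback.lift_fst_assoc]
    exact Over.w (snd U C))
  let m' : J' ⊗ C ⟶ U := Over.homMk (pr π (fst J' C) (snd J' C) ≫ e.inv.hom.left ≫ pullback.snd π U.hom) (by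
    rw [Category.assoc, Category.assoc, ← pullback.condition, reassoc_of% he', pullback.lift_snd_assoc]
    exact Over.w (snd J' C))
  have hm : ∀ {T : Over S} (x : T ⟶ U) (z : T ⟶ C), pr π (lift x z ≫ m) z = E x z ≫ e.hom.hom.left :=
    fun {T} x z => by
    refine pullback.hom_ext ?_ ?_
    · rw [pullback.lift_fst, Over.comp_left, Category.assoc]
      show (lift x z).left ≫ E (fst U C) (snd U C) ≫ _ = _
      rw [← Category.assoc]
      congr 1
      refine pullback.hom_ext ?_ ?_ <;> simp only [E, Category.assoc, pullback.lift_fst, pullback.lift_snd] <;>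
        rw [← Over.comp_left] <;> simp only [lift_fst, lift_snd]
    · rw [pullback.lift_snd, Category.assoc, he, pullback.lift_fst]
  have hm' : ∀ {T : Over S} (g : T ⟶ J') (z : T ⟶ C), E (lift g z ≫ m') z = pr π g z ≫ e.inv.hom.left :=
    fun {T} g z => by
    refine pullback.hom_ext ?_ ?_
    · rw [pullback.lift_fst, Category.assoc, he', pullback.lift_snd]
    · rw [pullback.lift_snd, Over.comp_left, Category.assoc]
      show (lift g z).left ≫ pr π (fst J' C) (snd J' C) ≫ _ = _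
      rw [← Category.assoc]
      congr 1
      refine pullback.hom_ext ?_ ?_ <;> simp only [Category.assoc, pullback.lift_fst, pullback.lift_snd] <;>
        rw [← Over.comp_left] <;> first | simp only [lift_fst, lift_snd] | exact congrArg Over.Hom.left (lift_snd _ _)
  have hmm : ∀ {T : Over S} (g : T ⟶ J') (z : T ⟶ C), lift (lift g z ≫ m') z ≫ m = g := fun {T} g z => by
    have h1 := hm (lift g z ≫ m') z
    rw [hm', Category.assoc, heq₂] at h1
    replace h1 := h1.trans (Category.comp_id _)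
    have h2 := congrArg (· ≫ pullback.fst J'.hom π) h1
    simp only [pullback.lift_fst] at h2
    exact Over.OverMorphism.ext h2
  have hmm' : ∀ {T : Over S} (x : T ⟶ U) (z : T ⟶ C), lift (lift x z ≫ m) z ≫ m' = x := fun {T} x z => by
    have h1 := hm' (lift x z ≫ m) z
    rw [hm, Category.assoc, heq₁] at h1
    replace h1 := h1.trans (Category.comp_id _)
    have h2 := congrArg (· ≫ pullback.snd π U.hom) h1
    simp only [E, pullback.lift_snd] at h2
    exact Over.OverMorphism.ext h2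
  have hinj : ∀ {T : Over S} {x y : T ⟶ U} (z : T ⟶ C), lift x z ≫ m = lift y z ≫ m → x = y :=
    fun {T x y} z h => by rw [← hmm' x z, h, hmm']
  have htr : ∀ {T : Over S} (x : T ⟶ U) (z z' : T ⟶ C),
      lift x z' ≫ m = (lift x z ≫ m) * tr u ha.1 π q z z' := fun {T} x z z' => by
    have hh : z.left ≫ π = z'.left ≫ π := (Over.w z).trans (Over.w z').symm
    have hc := e.hom.comm z.left z'.left hh ⟨E x z, pullback.lift_fst _ _ _⟩
      ⟨E x z ≫ e.hom.hom.left, by
        change (E x z ≫ e.hom.hom.left) ≫ pullback.snd J'.hom π = z.left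
        rw [Category.assoc, he, pullback.lift_fst]⟩ rfl
    change (glue u ha.1 π q z.left z'.left hh _).1 = _ at hc
    rw [glue_eq u ha.1 π q z z' (lift x z ≫ m) hh _ (hm x z).symm] at hc
    have hcan : (Desc.canMap π U z.left z'.left hh ⟨E x z, pullback.lift_fst _ _ _⟩).1 = E x z' := by
      rw [Desc.canMap_val]
      refine pullback.hom_ext ?_ ?_ <;> simp only [E, pullback.lift_fst, pullback.lift_snd]
    replace hc : pr π ((lift x z ≫ m) * tr u ha.1 π q z z') z' = E x z' ≫ e.hom.hom.left :=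
      hc.trans (congrArg (· ≫ e.hom.hom.left) hcan)
    rw [← hm] at hc
    have h2 := congrArg (· ≫ pullback.fst J'.hom π) hc
    simp only [pullback.lift_fst] at h2
    exact (Over.OverMorphism.ext h2).symm
  -- translations
  obtain ⟨α, hα⟩ := TorsSeqLib.descend hC (Z := J' ⊗ U) (M₀ := U)
    (lift ((fst _ _ ≫ fst J' U) * (lift (fst _ _ ≫ snd J' U) (snd _ _) ≫ m)) (snd _ _) ≫ m') fun T w z z' => by
      refine hinj z' ?_
      simp only [← Category.assoc, comp_lift, MonObj.comp_mul, lift_fst, lift_snd]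
      rw [htr _ z z', hmm, hmm, htr (w ≫ snd J' U) z z', mul_assoc]
  have hαm : ∀ {T : Over S} (g : T ⟶ J') (x : T ⟶ U) (z : T ⟶ C),
      lift (lift g x ≫ α) z ≫ m = g * (lift x z ≫ m) := fun {T} g x z => by
    rw [hα T (lift g x) z]
    simp only [← Category.assoc, comp_lift, MonObj.comp_mul, lift_fst, lift_snd]
    rw [hmm]
  let a' : AlgGrp.Action J' U := mkAction α
    (fun T x => TorsSeqLib.ext_cover hC _ _ fun T' w z => hinj z (by
      rw [← Category.assoc, comp_lift, MonObj.comp_one, hαm, one_mul]))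
    (fun T g g' x => TorsSeqLib.ext_cover hC _ _ fun T' w z => hinj z (by
      simp only [← Category.assoc, comp_lift, MonObj.comp_mul]
      rw [hαm, hαm, hαm, mul_assoc]))
  have ha' : ∀ {T : Over S} (g : T ⟶ J') (x : T ⟶ U) (z : T ⟶ C),
      lift (act a' g x) z ≫ m = g * (lift x z ≫ m) := hαm
  obtain ⟨f, hf⟩ := TorsSeqLib.descend hC (Z := P) (M₀ := U)
    (lift (ratio ha.1 (fst P C) (snd P C ≫ q) ≫ u) (snd P C) ≫ m') fun T w z z' => by
      refine hinj z' ?_
      simp only [← Category.assoc, comp_lift, comp_ratio, lift_fst, lift_snd]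
      rw [htr _ z z', hmm, hmm, tr, ← MonObj.mul_comp, ratio_mul]
  have hfm : ∀ {T : Over S} (s : T ⟶ P) (z : T ⟶ C), lift (s ≫ f) z ≫ m = ratio ha.1 s (z ≫ q) ≫ u :=
    fun {T} s z => by
    rw [hf T s z]
    simp only [← Category.assoc, comp_lift, comp_ratio, lift_fst, lift_snd]
    rw [hmm]
  refine ⟨U, a', f, ⟨isPseudoTorsorSch_of_points fun T x y => ?_, ?_⟩, fun T g s => ?_⟩
  · obtain ⟨d, hd⟩ := TorsSeqLib.descend hC (Z := T) (M₀ := J')
      ((lift (fst T C ≫ y) (snd T C) ≫ m) * (lift (fst T C ≫ x) (snd T C) ≫ m)⁻¹) fun T' w z z' => by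
        simp only [MonObj.comp_mul, GrpObj.comp_inv, ← Category.assoc, comp_lift, lift_fst, lift_snd]
        rw [htr (w ≫ y) z z', htr (w ≫ x) z z', mul_inv_rev, mul_assoc, mul_inv_cancel_left]
    refine ⟨d, TorsSeqLib.ext_cover hC _ _ fun T' w z => hinj z ?_,
      fun d' hd' => TorsSeqLib.ext_cover hC _ _ fun T' w z => ?_⟩
    · rw [comp_act, ha', hd T' w z]
      simp only [MonObj.comp_mul, GrpObj.comp_inv, ← Category.assoc, comp_lift, lift_fst, lift_snd]
      rw [inv_mul_cancel_right]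
    · rw [hd T' w z]
      simp only [MonObj.comp_mul, GrpObj.comp_inv, ← Category.assoc, comp_lift, lift_fst, lift_snd]
      rw [eq_mul_inv_iff_mul_eq, ← ha', ← comp_act, hd']
  · obtain ⟨R, hR, hsec⟩ := hC
    refine ⟨R, hR, fun S' g hg => ?_⟩
    obtain ⟨σ, hσ⟩ := hsec g hg
    exact ⟨σ ≫ (lift (1 : C ⟶ J') (𝟙 C) ≫ m').left, by rw [Category.assoc, Over.w (lift (1 : C ⟶ J') (𝟙 C) ≫ m'), hσ]⟩
  · refine TorsSeqLib.ext_cover hC _ _ fun T' w z => hinj z ?_
    rw [← Category.assoc, comp_act, hfm, comp_act, ha', ← Category.assoc w s f, hfm, ratio_act, MonObj.mul_comp,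
      Category.assoc]

end Groth.Agent.Nori
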