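import Groth.Agent.NoriFGSLib.Twist
import Groth.Agent.TorsLimLib.Basic

/-!
# Finite stages of a fundamental group scheme, pull-backs of pointed torsors
-/

set_option autoImplicit false
set_option backward.isDefEq.respectTransparency false
set_option linter.style.haveILetI false

noncomputable section

universe u

open CategoryTheory CategoryTheory.Limits MonoidalCategory CartesianMonoidalCategory AlgebraicGeometry
open scoped MonObj
open RichLib.LimBC Groth.Agent.TorsLim

attribute [-instance] CategoryTheory.Hom.commGroup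

namespace Groth.Agent.Nori

variable {k : Type u} [Field k]

/-- A pro-finite group scheme is affine. -/
theorem isAffineHom_of_isProFinite {πN : Over (Spec (CommRingCat.of k))} [GrpObj πN]
    (h : NoriFGS.IsProFinite πN) : IsAffineHom πN.hom := by
  obtain ⟨⟨I, D, π, hlim⟩⟩ := h
  exact (TorsLim.overSys D (fun i => inferInstance) (Cone.mk πN π) hlim).affine_s

theorem isAffine_of_isProFinite {πN : Over (Spec (CommRingCat.of k))} [GrpObj πN]
    (h : NoriFGS.IsProFinite πN) : IsAffine πN.left :=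
  haveI := isAffineHom_of_isProFinite h
  isAffine_of_isAffineHom πN.hom

/-- Finitely many functions on a pro-finite group scheme come from one finite stage. -/
theorem exists_stage_appTop {πN : Over (Spec (CommRingCat.of k))} [GrpObj πN] (h : NoriFGS.IsProFinite πN)
    {L : Type u} [Finite L] (w : L → Γ(πN.left, ⊤)) :
    ∃ (D : Over (Spec (CommRingCat.of k))) (_ : GrpObj D) (_ : IsFinite D.hom) (π : πN ⟶ D) (_ : IsMonHom π)
      (y : L → Γ(D.left, ⊤)), ∀ l, π.left.appTop.hom (y l) = w l := by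
  obtain ⟨⟨I, D, π, hlim⟩⟩ := h
  let A := TorsLim.overSys D (fun i => inferInstance) (Cone.mk πN π) hlim
  haveI := A.affine_s
  haveI : IsAffine A.c.pt := isAffine_of_isAffineHom A.s
  haveI := A.isAffine_obj
  obtain ⟨i, hi⟩ := exists_stage
    (fun (l : L) (i : I) => ∃ y, (π.app i).left.appTop.hom y = w l)
    (fun l {i j} a ⟨y, hy⟩ => ⟨(D.map a).left.appTop.hom y, by
      refine Eq.trans ?_ hy
      rw [← ((Cone.mk πN π).w a)]
      exact (appTop_comp _ _ _).symm⟩)
    (fun l => exists_appTop_π_eq A (w l))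
  choose y hy using hi
  exact ⟨D.obj i, inferInstance, inferInstance, π.app i, inferInstance, y, hy⟩

variable {X : Scheme.{u}} [X.Over (Spec (CommRingCat.of k))] {x : Spec (CommRingCat.of k) ⟶ X}
  (hx : x ≫ (X ↘ Spec (CommRingCat.of k)) = 𝟙 _)

include hx in
/-- A homomorphism to a finite group factors through the group of a Nori-reduced pointed torsor. -/
theorem exists_reduced {πN : Over (Spec (CommRingCat.of k))} [GrpObj πN] {P : Over X}
    {a : AlgGrp.Action (Red.bc (X ↘ Spec (CommRingCat.of k)) πN) P} {p : Spec (CommRingCat.of k) ⟶ P.left}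
    (hP : NoriFGS.IsFGS x πN a p) (G : Over (Spec (CommRingCat.of k))) [GrpObj G] [IsFinite G.hom] (ψ : πN ⟶ G)
    [IsMonHom ψ] :
    ∃ (H : Over (Spec (CommRingCat.of k))) (_ : GrpObj H) (_ : IsFinite H.hom) (i : H ⟶ G) (_ : IsMonHom i)
      (_ : IsClosedImmersion i.left) (ψ' : πN ⟶ H) (_ : IsMonHom ψ') (V : Over X)
      (c : AlgGrp.Action (Red.bc (X ↘ Spec (CommRingCat.of k)) H) V) (v : Spec (CommRingCat.of k) ⟶ V.left)
      (f : P ⟶ V), ψ' ≫ i = ψ ∧ NonAbH1.IsTorsorFor Scheme.fpqcPrecoverage c ∧ v ≫ V.hom = x ∧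
      NoriFGS.IsNoriReduced Scheme.fpqcPrecoverage c ∧ NoriFGS.IsPtTorsorHom a p c v ψ' f := by
  haveI := isAffineHom_of_isProFinite hP.1
  haveI : IsAffineHom (Red.bc (X ↘ Spec (CommRingCat.of k)) G).hom :=
    MorphismProperty.pullback_snd (P := @IsAffineHom) G.hom _ inferInstance
  obtain ⟨T, b, f, hb, hf⟩ := exists_push ((Over.pullback (X ↘ Spec (CommRingCat.of k))).map ψ) a hP.2.1
  have hpt : NoriFGS.IsPtTorsorHom a p b (p ≫ f.left) ψ f := ⟨(isEquivariant_iff a b _ f).2 hf, rfl⟩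
  obtain ⟨H, _, _, i, _, _, ψ', _, V, j, _, c, f', hψi, hd, -, -, hc, -, -, hf'⟩ := exists_subtorsor hP.2.1 hb hpt
  haveI := hd
  have hv : (p ≫ f'.left) ≫ V.hom = x := by rw [Category.assoc, Over.w f', hP.2.2.1]
  exact ⟨H, _, ‹_›, i, ‹_›, ‹_›, ψ', ‹_›, V, c, _, f', hψi, hc, hv,
    isNoriReduced_of_dominant hx hP hc hv hf', hf'⟩

section pullback

variable {Y : Scheme.{u}} [Y.Over (Spec (CommRingCat.of k))] (f : X ⟶ Y)
  (hf : f ≫ (Y ↘ Spec (CommRingCat.of k)) = X ↘ Spec (CommRingCat.of k))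
  {H : Over (Spec (CommRingCat.of k))} [GrpObj H] {U : Over Y}
  (c : AlgGrp.Action (Red.bc (Y ↘ Spec (CommRingCat.of k)) H) U)

/-- The pull-back of a torsor. -/
abbrev pbAct : AlgGrp.Action (Red.bc (X ↘ Spec (CommRingCat.of k)) H) (Red.bc f U) :=
  (c.bc f).restrict (ActBC.bcCompIso f (Y ↘ Spec (CommRingCat.of k)) H hf).inv

theorem isTorsorFor_pbAct (hc : NonAbH1.IsTorsorFor Scheme.fpqcPrecoverage c) :
    NonAbH1.IsTorsorFor Scheme.fpqcPrecoverage (pbAct f hf c) := by
  obtain ⟨h1, h2⟩ := NonAbH1.isTorsorFor_bc f Scheme.fpqcPrecoverage hc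
  let e := ActBC.bcCompIso f (Y ↘ Spec (CommRingCat.of k)) H hf
  refine ⟨isPseudoTorsorSch_of_points fun Z v v' => ?_, h2⟩
  obtain ⟨g, hg, hu⟩ := existsUnique_act h1 v v'
  refine ⟨g ≫ e.hom, ?_, fun g' hg' => ?_⟩
  · show act _ _ v = v'
    rw [act_restrict, Category.assoc, Iso.hom_inv_id, Category.comp_id, hg]
  · rw [← hu (g' ≫ e.inv) (by
      show act (c.bc f) _ v = v'
      rw [← act_restrict]
      exact hg'), Category.assoc, Iso.inv_hom_id, Category.comp_id]

variable {y : Spec (CommRingCat.of k) ⟶ Y} (hfx : x ≫ f = y) {u : Spec (CommRingCat.of k) ⟶ U.left}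

/-- The point of the pull-back. -/
abbrev pbPt (hfx : x ≫ f = y) (hu : u ≫ U.hom = y) : Spec (CommRingCat.of k) ⟶ (Red.bc f U).left :=
  pullback.lift u x (hu.trans hfx.symm)

theorem pbPt_hom (hu : u ≫ U.hom = y) : pbPt (U := U) f hfx hu ≫ (Red.bc f U).hom = x :=
  pullback.lift_snd _ _ _

/-- The universal torsor maps to the pull-back of a pointed torsor along the induced homomorphism. -/
theorem induced_comp {πX πY : Over (Spec (CommRingCat.of k))} [GrpObj πX] [GrpObj πY] {PX : Over X} {PY : Over Y}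
    {aX : AlgGrp.Action (Red.bc (X ↘ Spec (CommRingCat.of k)) πX) PX}
    {aY : AlgGrp.Action (Red.bc (Y ↘ Spec (CommRingCat.of k)) πY) PY}
    {pX : Spec (CommRingCat.of k) ⟶ PX.left} {pY : Spec (CommRingCat.of k) ⟶ PY.left} (hpX : pX ≫ PX.hom = x)
    {φ : πX ⟶ πY} [IsMonHom φ] (hφ : NoriFGS.IsInducedHom f hf aX pX aY pY φ)
    (hu : u ≫ U.hom = y) {ψ : πY ⟶ H} [IsMonHom ψ] {h : PY ⟶ U}
    (hh : NoriFGS.IsPtTorsorHom aY pY c u ψ h) :
    ∃ m : PX ⟶ Red.bc f U, NoriFGS.IsPtTorsorHom aX pX (pbAct f hf c) (pbPt f hfx hu) (φ ≫ ψ) m := by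
  obtain ⟨_, g, hg, hgp⟩ := hφ
  let FY := Over.pullback (Y ↘ Spec (CommRingCat.of k))
  let FFf := Over.pullback f
  let eX := ActBC.bcCompIso f (Y ↘ Spec (CommRingCat.of k)) πX hf
  let eH := ActBC.bcCompIso f (Y ↘ Spec (CommRingCat.of k)) H hf
  have h1 := (isEquivariant_iff (aX.restrict eX.hom) (aY.bc f) (FFf.map (FY.map φ)) g).1 hg
  have h2 : AlgGrp.Action.IsEquivariant (aY.bc f) ((c.bc f).restrict (FFf.map (FY.map ψ))) (FFf.map h) := by
    rw [← AlgGrp.Action.bc_restrict]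
    exact AlgGrp.Action.isEquivariant_bc f hh.1
  have h3 := (isEquivariant_iff (aY.bc f) (c.bc f) _ (FFf.map h)).1 h2
  refine ⟨g ≫ FFf.map h, (isEquivariant_iff aX (pbAct f hf c) _ _).2 fun Z q v => ?_, ?_⟩
  · have e := h1 Z (q ≫ eX.inv) v
    rw [act_restrict, show (q ≫ eX.inv) ≫ eX.hom = q by rw [Category.assoc, Iso.inv_hom_id, Category.comp_id]] at e
    have nat : eX.inv ≫ FFf.map (FY.map φ) ≫ FFf.map (FY.map ψ) =
        (Over.pullback (X ↘ Spec (CommRingCat.of k))).map (φ ≫ ψ) ≫ eH.inv := by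
      rw [← Functor.map_comp, ← Functor.map_comp, Iso.inv_comp_eq, ← Category.assoc, Iso.eq_comp_inv]
      exact ActBC.bcCompIso_hom_naturality f _ hf (φ ≫ ψ)
    rw [← Category.assoc, e, h3, act_restrict]
    have e' : ((q ≫ eX.inv) ≫ FFf.map (FY.map φ)) ≫ FFf.map (FY.map ψ) =
        (q ≫ (Over.pullback (X ↘ Spec (CommRingCat.of k))).map (φ ≫ ψ)) ≫ eH.inv := by
      simp only [Category.assoc]
      rw [nat]
    rw [e', Category.assoc v]
  · refine pullback.hom_ext ?_ ?_
    · rw [pullback.lift_fst, Over.comp_left, Category.assoc, Category.assoc, ActBC.pullback_map_left_fst,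
        reassoc_of% hgp, hh.2]
    · rw [pullback.lift_snd, Category.assoc]
      exact (congrArg (pX ≫ ·) (Over.w (g ≫ FFf.map h))).trans hpX

end pullback

end Groth.Agent.Nori
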