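import Groth.Agent.NoriFGSLib.Pts
import Groth.Agent.NoriFGSLib.Push

/-!
# The sub-torsor generated by a morphism of pointed torsors
-/

set_option autoImplicit false
set_option backward.isDefEq.respectTransparency false
set_option linter.style.haveILetI false

noncomputable section

universe u

open CategoryTheory CategoryTheory.Limits MonoidalCategory CartesianMonoidalCategory AlgebraicGeometry
open scoped MonObj

attribute [-instance] CategoryTheory.Hom.commGroup

namespace Groth.Agent.Nori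

variable {k : Type u} [Field k] {X : Scheme.{u}} [X.Over (Spec (CommRingCat.of k))]

theorem flat_str : Flat (X ↘ Spec (CommRingCat.of k)) := inferInstance

/-- A property of the group passes to the torsor. -/
theorem property_torsor {H₀ : Over (Spec (CommRingCat.of k))} [GrpObj H₀] {P : Over X}
    {a : AlgGrp.Action (Red.bc (X ↘ Spec (CommRingCat.of k)) H₀) P}
    (ha : NonAbH1.IsTorsorFor Scheme.fpqcPrecoverage a) (Q : MorphismProperty Scheme.{u}) [IsZariskiLocalAtTarget Q]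
    [Q.IsStableUnderBaseChange] [Q.DescendsAlong (@Surjective ⊓ @Flat ⊓ @QuasiCompact)] (h : Q H₀.hom) :
    Q P.hom :=
  TorsFpqc.property_of_torsor Q a ha (MorphismProperty.pullback_snd (P := Q) H₀.hom _ h)

variable {x : Spec (CommRingCat.of k) ⟶ X} (hx : x ≫ (X ↘ Spec (CommRingCat.of k)) = 𝟙 _)

/-- The schematic image of a morphism of pointed torsors is a sub-torsor under the image of the homomorphism. -/
theorem exists_subtorsor {H₀ G : Over (Spec (CommRingCat.of k))} [GrpObj H₀] [GrpObj G] [IsAffineHom H₀.hom]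
    [IsFinite G.hom] {P T : Over X}
    {a : AlgGrp.Action (Red.bc (X ↘ Spec (CommRingCat.of k)) H₀) P}
    {b : AlgGrp.Action (Red.bc (X ↘ Spec (CommRingCat.of k)) G) T}
    (ha : NonAbH1.IsTorsorFor Scheme.fpqcPrecoverage a) (hb : NonAbH1.IsTorsorFor Scheme.fpqcPrecoverage b)
    {p : Spec (CommRingCat.of k) ⟶ P.left} {t : Spec (CommRingCat.of k) ⟶ T.left}
    {ψ : H₀ ⟶ G} [IsMonHom ψ] {f : P ⟶ T} (hf : NoriFGS.IsPtTorsorHom a p b t ψ f) :
    ∃ (H : Over (Spec (CommRingCat.of k))) (_ : GrpObj H) (_ : IsFinite H.hom) (i : H ⟶ G) (_ : IsMonHom i)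
      (_ : IsClosedImmersion i.left) (ψ' : H₀ ⟶ H) (_ : IsMonHom ψ') (V : Over X) (j : V ⟶ T)
      (_ : IsClosedImmersion j.left) (c : AlgGrp.Action (Red.bc (X ↘ Spec (CommRingCat.of k)) H) V) (f' : P ⟶ V),
      ψ' ≫ i = ψ ∧ IsSchemeTheoreticallyDominant ψ'.left ∧ QuasiCompact ψ'.left ∧ Surjective ψ'.left ∧
      NonAbH1.IsTorsorFor Scheme.fpqcPrecoverage c ∧
      AlgGrp.Action.IsEquivariant c (b.restrict ((Over.pullback (X ↘ Spec (CommRingCat.of k))).map i)) j ∧
      f' ≫ j = f ∧ NoriFGS.IsPtTorsorHom a p c (p ≫ f'.left) ψ' f' := by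
  let s := X ↘ Spec (CommRingCat.of k)
  let F := Over.pullback s
  haveI : Flat s := flat_str
  haveI : Flat P.hom := property_torsor ha @Flat (inferInstanceAs (Flat H₀.hom))
  haveI : IsAffineHom P.hom := property_torsor ha @IsAffineHom ‹IsAffineHom H₀.hom›
  haveI : QuasiCompact P.hom := inferInstance
  haveI : IsAffineHom T.hom := property_torsor hb @IsAffineHom inferInstance
  haveI : QuasiCompact f.left := by
    haveI : QuasiCompact (f.left ≫ T.hom) := by rw [Over.w f]; infer_instance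
    exact QuasiCompact.of_comp f.left T.hom
  haveI : QuasiCompact ψ.left := by
    haveI : QuasiCompact (ψ.left ≫ G.hom) := by rw [Over.w ψ]; infer_instance
    exact QuasiCompact.of_comp ψ.left G.hom
  obtain ⟨H, _, i, ψ', hi, hψ', hψi, hic, hdom, hqc, hsur⟩ := GrpHom.exists_image ψ
  haveI := hi; haveI := hψ'; haveI := hic; haveI := hdom; haveI := hqc
  haveI : IsFinite H.hom := by rw [← Over.w i]; infer_instance
  haveI := mono_map s i
  haveI := isClosedImmersion_map s i
  haveI := (dominant_map s ψ').1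
  haveI := (dominant_map s ψ').2
  have he := (isEquivariant_iff a b (F.map ψ) f).1 hf.1
  have heψ : F.map ψ = F.map ψ' ≫ F.map i := by rw [← Functor.map_comp, hψi]
  -- the image
  let V : Over X := Over.mk (f.left.imageι ≫ T.hom)
  let j : V ⟶ T := Over.homMk f.left.imageι rfl
  let f' : P ⟶ V := Over.homMk f.left.toImage (by
    show f.left.toImage ≫ f.left.imageι ≫ T.hom = P.hom
    rw [Scheme.Hom.toImage_imageι_assoc]
    exact Over.w f)
  haveI : IsClosedImmersion j.left := inferInstanceAs (IsClosedImmersion f.left.imageι)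
  haveI : Mono j := Over.mono_of_mono_left j
  haveI : IsSchemeTheoreticallyDominant f'.left := GrpHom.dominant_of_eq_toImage f.left
  haveI : QuasiCompact f'.left := inferInstanceAs (QuasiCompact f.left.toImage)
  have hfj : f' ≫ j = f := Over.OverMorphism.ext (Scheme.Hom.toImage_imageι f.left)
  -- the points of the image
  obtain ⟨l₁, hl₁⟩ : ∃ l : Red.bc s H ⊗ P ⟶ V, l ≫ j = act b (fst _ _ ≫ F.map i) (snd _ _ ≫ f) := by
    haveI := dominant_whiskerRight P (F.map ψ')
    refine GrpHom.exists_factor j (F.map ψ' ▷ P) _ (a.act ≫ f') ?_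
    rw [comp_act, whiskerRight_fst_assoc, whiskerRight_snd_assoc, Category.assoc, hfj, ← heψ, ← he,
      act, lift_fst_snd, Category.id_comp]
  obtain ⟨l₂, hl₂⟩ : ∃ l : V ⊗ P ⟶ Red.bc s H, l ≫ F.map i = ratio hb.1 (fst V P ≫ j) (snd V P ≫ f) := by
    haveI := dominant_whiskerRight P f'
    refine GrpHom.exists_factor (F.map i) (f' ▷ P) _ (ratio ha.1 (fst P P) (snd P P) ≫ F.map ψ') ?_
    rw [comp_ratio, whiskerRight_fst_assoc, whiskerRight_snd_assoc, hfj, Category.assoc, ← heψ]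
    exact ratio_eq hb.1 (by rw [← he, ratio_spec])
  have key₁ : ∀ {Z : Over X} (h : Z ⟶ Red.bc s H) (q : Z ⟶ P),
      lift h q ≫ l₁ ≫ j = act b (h ≫ F.map i) (q ≫ f) := fun {Z} h q => by
    rw [hl₁, comp_act, lift_fst_assoc, lift_snd_assoc]
  have key₂ : ∀ {Z : Over X} (v : Z ⟶ V) (q : Z ⟶ P),
      act b ((lift v q ≫ l₂) ≫ F.map i) (q ≫ f) = v ≫ j := fun {Z} v q => by
    rw [Category.assoc, hl₂, comp_ratio, lift_fst_assoc, lift_snd_assoc, ratio_spec]
  -- the action
  obtain ⟨α, hα⟩ : ∃ α : Red.bc s H ⊗ V ⟶ V, α ≫ j = act b (fst _ _ ≫ F.map i) (snd _ _ ≫ j) := by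
    refine exists_factor_local ha.2 j _
      ⟨lift ((fst _ _ ≫ fst _ _) * (lift (fst _ _ ≫ snd _ _) (snd _ _) ≫ l₂)) (snd _ _) ≫ l₁, ?_⟩
    rw [Category.assoc, key₁, MonObj.mul_comp, act_mul, key₂, comp_act, Category.assoc, Category.assoc]
  have hαp : ∀ {Z : Over X} (h : Z ⟶ Red.bc s H) (v : Z ⟶ V),
      (lift h v ≫ α) ≫ j = act b (h ≫ F.map i) (v ≫ j) := fun {Z} h v => by
    rw [Category.assoc, hα, comp_act, lift_fst_assoc, lift_snd_assoc]
  let c := mkAction α (fun Z v => by rw [← cancel_mono j, hαp, MonObj.one_comp, act_one])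
    (fun Z h h' v => by rw [← cancel_mono j, hαp, hαp, hαp, MonObj.mul_comp, act_mul])
  have hc : AlgGrp.Action.IsEquivariant c (b.restrict (F.map i)) j :=
    (isEquivariant_iff c b (F.map i) j).2 fun Z h v => hαp h v
  refine ⟨H, _, ‹_›, i, hi, hic, ψ', hψ', V, j, ‹_›, c, f', hψi, hdom, hqc, hsur, ⟨?_, ?_⟩, hc, hfj, ?_, rfl⟩
  · refine isPseudoTorsorSch_of_points fun Z v v' => ?_
    obtain ⟨g, hg, hu⟩ := existsUnique_act hb.1 (v ≫ j) (v' ≫ j)
    obtain ⟨h, hh⟩ : ∃ h : Z ⟶ Red.bc s H, h ≫ F.map i = g := by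
      refine exists_factor_local ha.2 (F.map i) g
        ⟨(lift (fst _ _ ≫ v') (snd _ _) ≫ l₂) * (lift (fst _ _ ≫ v) (snd _ _) ≫ l₂)⁻¹, ?_⟩
      refine act_left_cancel hb.1 (x := fst Z P ≫ v ≫ j) ?_
      rw [← comp_act, hg, MonObj.mul_comp, act_mul]
      conv_lhs => rw [show fst Z P ≫ v ≫ j = (fst Z P ≫ v) ≫ j from (Category.assoc _ _ _).symm,
        ← key₂ (fst Z P ≫ v) (snd Z P)]
      rw [← act_mul b (((lift (fst Z P ≫ v) (snd Z P) ≫ l₂)⁻¹) ≫ F.map i), GrpObj.inv_comp, inv_mul_cancel, act_one,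
        key₂, Category.assoc]
    refine ⟨h, ?_, fun h' hh' => ?_⟩
    · show lift h v ≫ α = v'
      rw [← cancel_mono j, hαp, hh, hg]
    · rw [← cancel_mono (F.map i), hh]
      refine hu _ ?_
      show act b _ _ = _
      rw [← hαp, ← hh']
      rfl
  · obtain ⟨R, hR, hsec⟩ := ha.2
    refine ⟨R, hR, fun S' g hg => ?_⟩
    obtain ⟨σ, hσ⟩ := hsec g hg
    exact ⟨σ ≫ f'.left, by rw [Category.assoc, Over.w f', hσ]⟩
  · refine (isEquivariant_iff a c (F.map ψ') f').2 fun Z g q => ?_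
    show _ = lift (g ≫ F.map ψ') (q ≫ f') ≫ α
    rw [← cancel_mono j, hαp, Category.assoc, Category.assoc, Category.assoc, hfj, ← heψ]
    exact (Category.assoc _ _ _).symm.trans ((he _ _ _).trans (by rw [Category.assoc, hfj]))

variable (T : Over X) in
include hx in
/-- The homomorphism to the group of a Nori-reduced torsor is schematically dominant. -/
theorem dominant_of_isNoriReduced {H₀ G : Over (Spec (CommRingCat.of k))} [GrpObj H₀] [GrpObj G]
    [IsAffineHom H₀.hom] [IsFinite G.hom] {P : Over X}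
    {a : AlgGrp.Action (Red.bc (X ↘ Spec (CommRingCat.of k)) H₀) P}
    {b : AlgGrp.Action (Red.bc (X ↘ Spec (CommRingCat.of k)) G) T}
    (ha : NonAbH1.IsTorsorFor Scheme.fpqcPrecoverage a) (hb : NonAbH1.IsTorsorFor Scheme.fpqcPrecoverage b)
    {p : Spec (CommRingCat.of k) ⟶ P.left} {t : Spec (CommRingCat.of k) ⟶ T.left} (ht : t ≫ T.hom = x)
    {ψ : H₀ ⟶ G} [IsMonHom ψ] {f : P ⟶ T} (hf : NoriFGS.IsPtTorsorHom a p b t ψ f)
    (hT : NoriFGS.IsNoriReduced Scheme.fpqcPrecoverage b) :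
    IsSchemeTheoreticallyDominant ψ.left ∧ QuasiCompact ψ.left ∧ Surjective ψ.left := by
  obtain ⟨H, _, _, i, _, _, ψ', _, V, j, _, c, f', hψi, hd, hq, hs, hc, hj, -, -⟩ := exists_subtorsor ha hb hf
  haveI := hT H i V j c hc hj
  haveI := isIso_of_isIso_subtorsor hx ht hb.1 i c hc.1 j hj
  haveI : IsIso i.left := ((Over.forget _).mapIso (asIso i)).isIso_hom
  haveI := hd; haveI := hq; haveI := hs
  rw [← hψi, Over.comp_left]
  exact ⟨inferInstance, inferInstance, inferInstance⟩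

end Groth.Agent.Nori
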