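import Groth.Agent.NoriFGSLib.SubTorsor
import Groth.Agent.WeilResLib.Maps
import Groth.Agent.WeilResLib.Transporter

/-!
# Torsors receiving a dominant morphism from the universal one are Nori-reduced
-/

set_option autoImplicit false
set_option backward.isDefEq.respectTransparency false
set_option linter.style.haveILetI false
set_option maxHeartbeats 1000000

noncomputable section

universe u

open CategoryTheory CategoryTheory.Limits MonoidalCategory CartesianMonoidalCategory AlgebraicGeometry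
open scoped MonObj

attribute [-instance] CategoryTheory.Hom.commGroup

namespace Groth.Agent.Nori

variable {k : Type u} [Field k] {X : Scheme.{u}} [X.Over (Spec (CommRingCat.of k))]

local notation "FX" => Over.pullback (X ↘ Spec (CommRingCat.of k))

/-- A product of points given by a universal product. -/
theorem exists_map_mul {A B C G : Over (Spec (CommRingCat.of k))} [GrpObj G] {φA : A ⟶ G} {φB : B ⟶ G} {φC : C ⟶ G}
    (m : A ⊗ B ⟶ C) (hm : m ≫ φC = (fst A B ≫ φA) * (snd A B ≫ φB)) {Z : Over X} (a : Z ⟶ (FX).obj A)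
    (b : Z ⟶ (FX).obj B) :
    ∃ c : Z ⟶ (FX).obj C, c ≫ (FX).map φC = (a ≫ (FX).map φA) * (b ≫ (FX).map φB) := by
  let adj := Over.mapPullbackAdj (X ↘ Spec (CommRingCat.of k))
  obtain ⟨a₀, rfl⟩ := (adj.homEquiv Z A).surjective a
  obtain ⟨b₀, rfl⟩ := (adj.homEquiv Z B).surjective b
  refine ⟨adj.homEquiv Z C (lift a₀ b₀ ≫ m), ?_⟩
  simp only [adj, ← Adjunction.homEquiv_naturality_right]
  rw [← AlgGrp.Action.homEquiv_mul, Category.assoc, hm, MonObj.comp_mul, lift_fst_assoc, lift_snd_assoc]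

theorem comp_map_inv {B G : Over (Spec (CommRingCat.of k))} [GrpObj G] (φ : B ⟶ G) {Z : Over X}
    (b : Z ⟶ (FX).obj B) : b ≫ (FX).map φ⁻¹ = (b ≫ (FX).map φ)⁻¹ := by
  let adj := Over.mapPullbackAdj (X ↘ Spec (CommRingCat.of k))
  obtain ⟨b₀, rfl⟩ := (adj.homEquiv Z B).surjective b
  simp only [adj, ← Adjunction.homEquiv_naturality_right]
  rw [GrpObj.comp_inv]
  exact up_inv _

theorem isLocallyTrivialFor_self {S : Scheme.{u}} (W : Over S) [DescLib.Fpqc W.hom] :
    NonAbH1.IsLocallyTrivialFor Scheme.fpqcPrecoverage W :=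
  ⟨_, DescLib.Fpqc.mem (p := W.hom), fun S' g hg => by
    obtain ⟨⟩ := hg
    exact ⟨𝟙 W.left, Category.id_comp _⟩⟩

variable {x : Spec (CommRingCat.of k) ⟶ X} (hx : x ≫ (X ↘ Spec (CommRingCat.of k)) = 𝟙 _)

include hx in
/-- A torsor receiving a schematically dominant morphism from the universal one is Nori-reduced. -/
theorem isNoriReduced_of_dominant {πN : Over (Spec (CommRingCat.of k))} [GrpObj πN] {P : Over X}
    {a : AlgGrp.Action (Red.bc (X ↘ Spec (CommRingCat.of k)) πN) P} {p : Spec (CommRingCat.of k) ⟶ P.left}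
    (hP : NoriFGS.IsFGS x πN a p) {G : Over (Spec (CommRingCat.of k))} [GrpObj G] [IsFinite G.hom] {T : Over X}
    {b : AlgGrp.Action (Red.bc (X ↘ Spec (CommRingCat.of k)) G) T} {t : Spec (CommRingCat.of k) ⟶ T.left}
    (hb : NonAbH1.IsTorsorFor Scheme.fpqcPrecoverage b) (ht : t ≫ T.hom = x) {ψ : πN ⟶ G} [IsMonHom ψ]
    [IsSchemeTheoreticallyDominant ψ.left] {f : P ⟶ T} (hf : NoriFGS.IsPtTorsorHom a p b t ψ f) :
    NoriFGS.IsNoriReduced Scheme.fpqcPrecoverage b := by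
  intro H' _ i' _ _ V j _ c hc hj
  let s := X ↘ Spec (CommRingCat.of k)
  let o : atPt x G ⟶ T := orbit hx ht b (𝟙 G)
  haveI : Flat s := flat_str
  haveI : Mono j := Over.mono_of_mono_left j
  haveI : Mono i' := Over.mono_of_mono_left i'
  haveI := mono_map s i'
  have hj' := (isEquivariant_iff c b ((FX).map i') j).1 hj
  -- the trace of `V` on the group
  let C : Over (Spec (CommRingCat.of k)) := Over.mk (pullback.fst o.left j.left ≫ G.hom)
  let iC : C ⟶ G := Over.homMk (pullback.fst o.left j.left) rfl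
  let vC : atPt x C ⟶ V := Over.homMk (pullback.snd o.left j.left) (by
    rw [← Over.w j, ← Category.assoc, ← pullback.condition, Category.assoc, Over.w o]
    exact (Category.assoc _ _ _).symm)
  haveI : IsClosedImmersion iC.left := MorphismProperty.pullback_fst (P := @IsClosedImmersion) _ _ inferInstance
  haveI : Mono iC := Over.mono_of_mono_left iC
  have hvC : vC ≫ j = orbit hx ht b iC := by
    rw [← Category.comp_id iC, ← comp_orbit]
    exact Over.OverMorphism.ext pullback.condition.symm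
  have hvC' : ∀ {Z : Over (Spec (CommRingCat.of k))} (z : Z ⟶ C),
      ((Over.map x).map z ≫ vC) ≫ j = orbit hx ht b (z ≫ iC) := fun {Z} z => by
    rw [Category.assoc, hvC, comp_orbit]
  have hmem : ∀ {Z : Over (Spec (CommRingCat.of k))} (g : Z ⟶ G) (v : atPt x Z ⟶ V),
      v ≫ j = orbit hx ht b g → ∃ z : Z ⟶ C, z ≫ iC = g := fun {Z} g v hv => by
    have e : g.left ≫ o.left = v.left ≫ j.left := by
      have e' : (Over.map x).map g ≫ o = v ≫ j := by rw [comp_orbit, Category.comp_id, hv]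
      exact congrArg CommaMorphism.left e'
    exact ⟨Over.homMk (pullback.lift g.left v.left e) ((pullback.lift_fst_assoc _ _ _ _).trans (Over.w g)),
      Over.OverMorphism.ext (pullback.lift_fst _ _ _)⟩
  haveI : IsFinite C.hom := inferInstanceAs (IsFinite (iC.left ≫ G.hom))
  haveI : Flat C.hom := inferInstance
  haveI : LocallyOfFinitePresentation C.hom := LocallyOfFinitePresentation.iff_locallyOfFiniteType.2 inferInstance
  haveI : Surjective C.hom := by
    obtain ⟨Z, π, hπ, ⟨q⟩⟩ := exists_fpqc_point hc.2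
    haveI : Surjective V.hom := by
      haveI : Surjective (q.left ≫ V.hom) := by rw [Over.w q]; exact DescLib.Fpqc.surjective π
      exact Surjective.of_comp q.left V.hom
    let W : Over (Spec (CommRingCat.of k)) := Over.mk (pullback.snd V.hom x)
    let w : atPt x W ⟶ V := Over.homMk (pullback.fst V.hom x) pullback.condition
    obtain ⟨g, hg⟩ := exists_orbit_eq hx ht hb.1 (w ≫ j)
    obtain ⟨z, -⟩ := hmem g w hg.symm
    haveI : Surjective (z.left ≫ C.hom) := by
      rw [Over.w z]; exact MorphismProperty.pullback_snd (P := @Surjective) _ _ ‹Surjective V.hom›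
    exact Surjective.of_comp z.left C.hom
  obtain ⟨m₁, hm₁⟩ : ∃ m : H' ⊗ C ⟶ C, m ≫ iC = (fst H' C ≫ i') * (snd H' C ≫ iC) :=
    hmem _ (act c (pt hx (fst H' C)) ((Over.map x).map (snd H' C) ≫ vC)) (by
      rw [hj', hvC', pt_comp, orbit_mul])
  obtain ⟨m₂, hm₂⟩ : ∃ m : C ⊗ C ⟶ H', m ≫ i' = (fst C C ≫ iC) * (snd C C ≫ iC⁻¹) := by
    obtain ⟨h, hh, -⟩ := existsUnique_act hc.1 ((Over.map x).map (snd C C) ≫ vC) ((Over.map x).map (fst C C) ≫ vC)
    obtain ⟨h₀, rfl⟩ := exists_pt hx h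
    have e : _ ≫ j = _ ≫ j := congrArg (· ≫ j) hh
    rw [hj', hvC', hvC', pt_comp, ← orbit_mul] at e
    exact ⟨h₀, by rw [GrpObj.comp_inv, eq_mul_inv_iff_mul_eq, orbit_injective hx ht hb.1 e]⟩
  -- the stabiliser
  let cm : G ⊗ C ⟶ G := (snd G C ≫ iC) * fst G C
  obtain ⟨H, iH, hiH, hHmem, -⟩ := WeilRes.exists_mapsInto_closed_finite cm iC
  haveI := hiH
  haveI : Mono iH := Over.mono_of_mono_left iH
  have hQ : ∀ {Z W : Over (Spec (CommRingCat.of k))} (g : Z ⟶ G) (w : W ⟶ Z) (z : W ⟶ C),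
      lift (w ≫ g) z ≫ cm = (z ≫ iC) * (w ≫ g) := fun g w z => by
    simp only [cm, MonObj.comp_mul, lift_fst, lift_snd_assoc]
  obtain ⟨_, hiHm⟩ := WeilRes.exists_grpObj_of_pred iH (fun {Z} g => WeilRes.MapsInto cm iC g)
    (fun {Z} g => hHmem Z g)
    (fun W w z => ⟨z, by rw [hQ, MonObj.comp_one, mul_one]⟩)
    (fun {Z} g g' hg hg' W w z => by
      obtain ⟨z₁, h₁⟩ := hg W w z
      obtain ⟨z₂, h₂⟩ := hg' W w z₁
      exact ⟨z₂, by rw [← h₂, hQ, hQ, ← h₁, hQ, MonObj.comp_mul, mul_assoc]⟩)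
    (fun {Z} g hg W w z => by
      obtain ⟨z₁, h₁⟩ := hg W w z
      refine ⟨lift (lift z z₁ ≫ m₂) z ≫ m₁, ?_⟩
      rw [hQ] at h₁
      rw [hQ, Category.assoc, hm₁, MonObj.comp_mul, lift_fst_assoc, lift_snd_assoc, Category.assoc, hm₂,
        MonObj.comp_mul, lift_fst_assoc, lift_snd_assoc, GrpObj.comp_inv, GrpObj.comp_inv, ← h₁, mul_inv_rev]
      group)
  haveI := hiHm
  haveI : IsFinite H.hom := by rw [← Over.w iH]; infer_instance
  haveI := mono_map s iH
  obtain ⟨m₃, hm₃⟩ : ∃ m : C ⊗ H ⟶ C, m ≫ iC = (fst C H ≫ iC) * (snd C H ≫ iH) := by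
    obtain ⟨z, hz⟩ := (hHmem _ (snd C H ≫ iH)).1 ⟨_, rfl⟩ _ (𝟙 _) (fst C H)
    exact ⟨z, by rw [← hz, hQ, Category.id_comp]⟩
  -- the twisted torsor
  haveI : IsFinite ((FX).obj C).hom := MorphismProperty.pullback_snd (P := @IsFinite) C.hom s ‹_›
  haveI : Flat ((FX).obj C).hom := MorphismProperty.pullback_snd (P := @Flat) C.hom s ‹_›
  haveI : LocallyOfFinitePresentation ((FX).obj C).hom :=
    MorphismProperty.pullback_snd (P := @LocallyOfFinitePresentation) C.hom s ‹_›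
  let tm : T ⊗ (FX).obj C ⟶ T := act b (snd _ _ ≫ (FX).map iC) (fst _ _)
  obtain ⟨T₂, jT, hjT, hTmem, -⟩ := WeilRes.exists_mapsInto_closed_finite tm j
  haveI := hjT
  haveI : Mono jT := Over.mono_of_mono_left jT
  have hR : ∀ {Z W : Over X} (y : Z ⟶ T) (w : W ⟶ Z) (z : W ⟶ (FX).obj C),
      lift (w ≫ y) z ≫ tm = act b (z ≫ (FX).map iC) (w ≫ y) := fun y w z => by
    simp only [tm, comp_act, lift_fst, lift_snd_assoc]
  obtain ⟨α, hα⟩ : ∃ α : (FX).obj H ⊗ T₂ ⟶ T₂,
      α ≫ jT = act b (fst _ _ ≫ (FX).map iH) (snd _ _ ≫ jT) := by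
    refine (hTmem _ _).2 fun W w z => ?_
    obtain ⟨z', hz'⟩ := exists_map_mul m₃ hm₃ z (w ≫ fst _ _)
    obtain ⟨v, hv⟩ := (hTmem _ jT).1 ⟨𝟙 _, Category.id_comp _⟩ W (w ≫ snd _ _) z'
    refine ⟨v, ?_⟩
    rw [← hv, hR, hR, comp_act, ← act_mul, hz', Category.assoc, Category.assoc]
  have hαp : ∀ {Z : Over X} (h : Z ⟶ (FX).obj H) (y : Z ⟶ T₂),
      (lift h y ≫ α) ≫ jT = act b (h ≫ (FX).map iH) (y ≫ jT) := fun {Z} h y => by
    rw [Category.assoc, hα, comp_act, lift_fst_assoc, lift_snd_assoc]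
  let c₂ : AlgGrp.Action (Red.bc s H) T₂ := mkAction α
    (fun Z y => by rw [← cancel_mono jT, hαp, MonObj.one_comp, act_one])
    (fun Z h h' y => by rw [← cancel_mono jT, hαp, hαp, hαp, MonObj.mul_comp, act_mul])
  have hc₂ : NonAbH1.IsTorsorFor Scheme.fpqcPrecoverage c₂ := by
    refine ⟨isPseudoTorsorSch_of_points fun Z y y' => ?_, ?_⟩
    · obtain ⟨g, hg, hu⟩ := existsUnique_act hb.1 (y ≫ jT) (y' ≫ jT)
      obtain ⟨h₀, hh₀⟩ : ∃ h₀ : (Over.map s).obj Z ⟶ H, h₀ ≫ iH = dn g := by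
        refine (hHmem _ _).2 fun W w z => ?_
        let Wx : Over X := Over.mk (w.left ≫ Z.hom)
        let wx : Wx ⟶ Z := Over.homMk w.left
        let eW : (Over.map s).obj Wx ≅ W := Over.isoMk (Iso.refl _) (by
          show 𝟙 _ ≫ W.hom = (w.left ≫ Z.hom) ≫ s
          rw [Category.id_comp, Category.assoc]
          exact (Over.w w).symm)
        have heW : eW.inv ≫ (Over.map s).map wx = w := Over.OverMorphism.ext (Category.id_comp _)
        let z' : Wx ⟶ (FX).obj C := up (eW.hom ≫ z)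
        obtain ⟨v₁, hv₁⟩ := (hTmem _ (y ≫ jT)).1 ⟨y, rfl⟩ Wx wx z'
        obtain ⟨v₂, hv₂⟩ := (hTmem _ (y' ≫ jT)).1 ⟨y', rfl⟩ Wx wx z'
        rw [hR] at hv₁ hv₂
        obtain ⟨h, hh, -⟩ := existsUnique_act hc.1 v₁ v₂
        have e : _ ≫ j = _ ≫ j := congrArg (· ≫ j) hh
        rw [hj', ← hv₁, ← hv₂, ← act_mul, ← hg, comp_act, ← act_mul] at e
        have e' := act_left_cancel hb.1 e
        obtain ⟨z₁, hz₁⟩ := exists_map_mul m₁ hm₁ h z'
        refine ⟨eW.inv ≫ dn z₁, ?_⟩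
        have e₂ : dn z₁ ≫ iC = (eW.hom ≫ z ≫ iC) * ((Over.map s).map wx ≫ dn g) := by
          apply up_injective (Z := Wx) (s := s)
          rw [← up_comp, up_dn, up_mul, hz₁, e', ← comp_up, up_dn, ← up_comp (eW.hom ≫ z) iC |>.trans
            (congrArg up (Category.assoc _ _ _))]
        rw [hQ, Category.assoc, e₂, MonObj.comp_mul, Iso.inv_hom_id_assoc, ← Category.assoc, heW]
      have hh : up h₀ ≫ (FX).map iH = g := by rw [up_comp, hh₀, up_dn]
      refine ⟨up h₀, ?_, fun h' hh' => ?_⟩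
      · show lift (up h₀) y ≫ α = y'
        rw [← cancel_mono jT, hαp, hh, hg]
      · rw [← cancel_mono ((FX).map iH), hh]
        refine hu _ ?_
        show act b _ _ = _
        rw [← hαp, ← hh']
        rfl
    · obtain ⟨Z, π, hπ, ⟨q⟩⟩ := exists_fpqc_point hc.2
      let W : Over X := Over.mk π ⊗ (FX).obj C
      haveI : Surjective ((FX).obj C).hom := MorphismProperty.pullback_snd (P := @Surjective) C.hom s ‹_›
      haveI : Flat (fst (Over.mk π) ((FX).obj C)).left :=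
        MorphismProperty.pullback_fst (P := @Flat) π _ ‹Flat ((FX).obj C).hom›
      haveI : Surjective (fst (Over.mk π) ((FX).obj C)).left :=
        MorphismProperty.pullback_fst (P := @Surjective) π _ ‹Surjective ((FX).obj C).hom›
      haveI : QuasiCompact (fst (Over.mk π) ((FX).obj C)).left :=
        MorphismProperty.pullback_fst (P := @QuasiCompact) π _ inferInstance
      haveI : DescLib.Fpqc W.hom := by
        rw [show W.hom = (fst (Over.mk π) ((FX).obj C)).left ≫ π from (Over.w (fst (Over.mk π) _)).symm]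
        refine DescLib.Fpqc.of_memOfArrows _ ?_
        have h1 := Precoverage.comp_mem_coverings (J := Scheme.fpqcPrecoverage) (fun _ : PUnit.{u + 1} => π)
          (DescLib.Fpqc.memOfArrows π) (fun _ (_ : PUnit.{u + 1}) => (fst (Over.mk π) ((FX).obj C)).left)
          (fun _ => DescLib.Fpqc.memOfArrows _)
        refine Eq.mp (congrArg (· ∈ Scheme.fpqcPrecoverage X) ?_) h1
        refine le_antisymm ?_ ?_
        · rintro Y g ⟨i⟩; exact ⟨PUnit.unit⟩
        · rintro Y g ⟨i⟩; exact ⟨⟨PUnit.unit, PUnit.unit⟩⟩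
      let v : W ⟶ V := fst _ _ ≫ q
      let z : W ⟶ (FX).obj C := snd _ _
      obtain ⟨y, -⟩ : ∃ y : W ⟶ T₂, y ≫ jT = act b (z ≫ (FX).map iC)⁻¹ (v ≫ j) := by
        refine (hTmem _ _).2 fun W' w z' => ?_
        obtain ⟨h, hh⟩ := exists_map_mul m₂ hm₂ z' (w ≫ z)
        refine ⟨act c h (w ≫ v), ?_⟩
        rw [hR, hj', comp_act, ← act_mul, hh, comp_map_inv, GrpObj.comp_inv]
        simp only [v, Category.assoc]
      obtain ⟨R, hRc, hsec⟩ := isLocallyTrivialFor_self W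
      refine ⟨R, hRc, fun S' g hg => ?_⟩
      obtain ⟨σ, hσ⟩ := hsec g hg
      exact ⟨σ ≫ y.left, by rw [Category.assoc, Over.w y, hσ]⟩
  obtain ⟨zt, hzt⟩ : ∃ zt : atPt x (𝟙_ (Over (Spec (CommRingCat.of k)))) ⟶ T₂,
      zt ≫ jT = tpt ht (𝟙_ (Over (Spec (CommRingCat.of k)))) := by
    refine (hTmem _ _).2 fun W w z => ?_
    let W₀ := (Over.map s).obj W
    let e : W ⟶ atPt x W₀ := Over.homMk (𝟙 W.left) (by
      show 𝟙 _ ≫ (W.hom ≫ s) ≫ x = W.hom
      rw [Category.id_comp, ← Over.w w]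
      show ((w.left ≫ 𝟙 _ ≫ x) ≫ s) ≫ x = w.left ≫ 𝟙 _ ≫ x
      simp only [Category.id_comp, Category.assoc]
      rw [reassoc_of% hx])
    refine ⟨e ≫ (Over.map x).map (dn z) ≫ vC, ?_⟩
    have h1 : e ≫ pt hx (dn z ≫ iC) = z ≫ (FX).map iC := by
      unfold pt
      rw [comp_up, ← Category.assoc]
      conv_rhs => rw [← up_dn z, up_comp]
      congr 1
    have h2 : e ≫ tpt ht ((Over.map s).obj W) = w ≫ tpt ht (𝟙_ _) := Over.OverMorphism.ext (by
      show 𝟙 _ ≫ (W.hom ≫ s) ≫ t = w.left ≫ 𝟙 _ ≫ t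
      rw [Category.id_comp, ← Over.w w]
      show ((w.left ≫ 𝟙 _ ≫ x) ≫ s) ≫ t = _
      simp only [Category.id_comp, Category.assoc]
      rw [reassoc_of% hx])
    rw [hR, Category.assoc, hvC', orbit, comp_act, h1, h2]
  have ht₂ : zt.left ≫ T₂.hom = x := (Over.w zt).trans (Category.id_comp x)
  obtain ⟨-, -, hp, huniv⟩ := hP
  obtain ⟨ψ₂, _, f₂, hf₂, -⟩ := huniv H T₂ c₂ zt.left hc₂ ht₂
  obtain ⟨ψ₀, _, f₀, -, hu⟩ := huniv G T b t hb ht
  have he₂ := (isEquivariant_iff a c₂ _ f₂).1 hf₂.1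
  have hcomp : NoriFGS.IsPtTorsorHom a p b t (ψ₂ ≫ iH) (f₂ ≫ jT) :=
    ⟨(isEquivariant_iff a b _ _).2 fun Z g y => by
      rw [← Category.assoc, he₂]
      show (lift _ _ ≫ α) ≫ jT = _
      rw [hαp, Functor.map_comp, Category.assoc, Category.assoc], by
      rw [Over.comp_left, reassoc_of% hf₂.2, ← Over.comp_left, hzt]
      exact Category.id_comp t⟩
  have hψ : ψ₂ ≫ iH = ψ := (hu _ _ hcomp).1.trans (hu _ _ hf).1.symm
  obtain ⟨l, hl⟩ := GrpHom.exists_factor iH ψ (𝟙 G) ψ₂ (by rw [Category.comp_id, hψ])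
  -- so the trace is everything
  obtain ⟨lC, hlC⟩ : ∃ lC : G ⟶ C, lC ≫ iC = 𝟙 G := by
    haveI : DescLib.Fpqc C.hom := inferInstance
    refine exists_factor_local (isLocallyTrivialFor_self C) iC (𝟙 G) ?_
    obtain ⟨z, hz⟩ := (hHmem _ ((snd G C ≫ iC)⁻¹ * fst G C)).1
      ⟨((snd G C ≫ iC)⁻¹ * fst G C) ≫ l, by rw [Category.assoc, hl, Category.comp_id]⟩ _ (𝟙 _) (snd G C)
    exact ⟨z, by rw [← hz, hQ, Category.id_comp, mul_inv_cancel_left, Category.comp_id]⟩
  haveI : IsIso i' := by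
    refine ⟨lift lC ((1 : G ⟶ G) ≫ lC) ≫ m₂, ?_, ?_⟩
    · rw [← cancel_mono i', Category.assoc, Category.assoc, hm₂, MonObj.comp_mul, lift_fst_assoc, lift_snd_assoc,
        hlC, GrpObj.comp_inv, Category.assoc, hlC, Category.comp_id, inv_one, mul_one, Category.comp_id,
        Category.id_comp]
    · rw [Category.assoc, hm₂, MonObj.comp_mul, lift_fst_assoc, lift_snd_assoc, hlC, GrpObj.comp_inv,
        Category.assoc, hlC, Category.comp_id, inv_one, mul_one]
  haveI : IsMonHom (inv ((FX).map i')) := inferInstanceAs (IsMonHom (asIso ((FX).map i')).inv)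
  let a₁ := c.restrict (inv ((FX).map i'))
  refine TorsFpqc.isIso_of_equivariant a₁ b (isPseudoTorsorSch_of_points fun Z v v' => ?_) hb.1 hc.2 j ?_
  · obtain ⟨h, hh, hu'⟩ := existsUnique_act hc.1 v v'
    refine ⟨h ≫ (FX).map i', ?_, fun g hg => ?_⟩
    · show act a₁ _ v = v'
      rw [act_restrict, Category.assoc, IsIso.hom_inv_id, Category.comp_id]
      exact hh
    · rw [← hu' (g ≫ inv ((FX).map i')) (by
        show act c _ v = v'
        rw [← act_restrict]
        exact hg), Category.assoc, IsIso.inv_hom_id, Category.comp_id]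
  · have h1 := hj' _ (fst _ _ ≫ inv ((FX).map i')) (snd (Red.bc s G) V)
    simp only [act, Category.assoc, IsIso.inv_hom_id, Category.comp_id] at h1
    have h2 : (Red.bc s G ◁ j) ≫ b.act = act b (fst _ _) (snd (Red.bc s G) V ≫ j) := by
      rw [act]
      congr 1
    have h3 : a₁.act = act c (fst _ _ ≫ inv ((FX).map i')) (snd (Red.bc s G) V) := by
      rw [← act_restrict, act, lift_fst_snd, Category.id_comp]
    rw [h2, h3]
    simp only [act, Category.assoc]
    exact h1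

end Groth.Agent.Nori
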